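import Cfsg.Agent.H549.TwoCyc.AffT
import Cfsg.Agent.H384.Cyc.Defs

/-!
# TEAM TWOCYC (S3507): the affine case, in the interface of helper384 (helper549)
-/

set_option autoImplicit false

namespace Cfsg.Agent.H549.TwoCyc

open MulAction H384.Cyc

universe u v

/-- **Affine type**: a primitive group with an abelian normal subgroup and an element with two cycles has rank at
most three. -/
theorem affine {G : Type u} {Ω : Type v} [Group G] [MulAction G Ω] [Finite G] [Finite Ω] [FaithfulSMul G Ω]
    [IsPreprimitive G Ω] (N : Subgroup G) [N.Normal] (hab : IsMulCommutative ↥N) (hN : N ≠ ⊥) (g : G)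
    (h2 : Two Ω g) : rk G Ω ≤ 3 :=
  affine_aux N hab hN g h2

end Cfsg.Agent.H549.TwoCyc
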