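import Cfsg.Agent.H549.TwoCyc.AffFuse

/-!
# Affine groups with an element with two cycles: the case where `T` is not a `p`-element (helper549, for S3507)
-/

set_option autoImplicit false
set_option linter.unusedSectionVars false

namespace Cfsg.Agent.H549.TwoCyc

open MulAction

universe u v

/-- two cycles and an invariant subset -/
theorem two_class {α : Type*} {T : Equiv.Perm α} {u w : α} (hcov : ∀ v, T.SameCycle u v ∨ T.SameCycle w v)
    (X : α → Prop) (hX : ∀ v, X (T v) ↔ X v) {x₀ y₀ : α} (hx₀ : X x₀) (hy₀ : ¬ X y₀) (x y : α) (hxy : X x ↔ X y) :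
    T.SameCycle x y := by
  have h0 : ∀ k : ℕ, ∀ x, X ((T ^ k) x) ↔ X x := by
    intro k
    induction k with
    | zero => intro x; simp
    | succ k ih => intro x; rw [pow_succ', Equiv.Perm.mul_apply, hX, ih]
  have h1 : ∀ x y, T.SameCycle x y → (X x ↔ X y) := by
    rintro x y ⟨k, rfl⟩
    rcases Int.le_total 0 k with hk | hk
    · obtain ⟨n, rfl⟩ := Int.eq_ofNat_of_zero_le hk
      exact (h0 n x).symm
    · obtain ⟨n, hn⟩ := Int.eq_ofNat_of_zero_le (Int.neg_nonneg.2 hk)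
      have h2 : k = -(n : ℤ) := by omega
      have h3 := h0 n ((T ^ k) x)
      have h4 : (T ^ n) ((T ^ k) x) = x := by
        rw [h2, zpow_neg, zpow_natCast, ← Equiv.Perm.mul_apply, mul_inv_cancel]
        rfl
      rwa [h4] at h3
  rcases hcov x with h2 | h2 <;> rcases hcov y with h3 | h3
  · exact h2.symm.trans h3
  · exfalso
    have e1 := h1 _ _ h2
    have e2 := h1 _ _ h3
    rcases hcov x₀ with h4 | h4 <;> rcases hcov y₀ with h5 | h5 <;> have e3 := h1 _ _ h4 <;> have e4 := h1 _ _ h5 <;>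
      tauto
  · exfalso
    have e1 := h1 _ _ h2
    have e2 := h1 _ _ h3
    rcases hcov x₀ with h4 | h4 <;> rcases hcov y₀ with h5 | h5 <;> have e3 := h1 _ _ h4 <;> have e4 := h1 _ _ h5 <;>
      tauto
  · exact h2.symm.trans h3

/-- one cycle -/
theorem orderOf_eq_card {α : Type*} [Finite α] (T : Equiv.Perm α) (x₀ : α) (h : ∀ y, T.SameCycle x₀ y) :
    orderOf T = Nat.card α := by
  rw [← Nat.card_zpowers]
  refine Nat.card_congr (Equiv.ofBijective (fun t : Subgroup.zpowers T => t.1 x₀) ⟨?_, ?_⟩)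
  · rintro ⟨t, ⟨i, rfl⟩⟩ ⟨t', ⟨j, rfl⟩⟩ hij
    apply Subtype.ext
    ext y
    obtain ⟨k, rfl⟩ := h y
    change (T ^ i) x₀ = (T ^ j) x₀ at hij
    change (T ^ i) ((T ^ k) x₀) = (T ^ j) ((T ^ k) x₀)
    rw [← Equiv.Perm.mul_apply, ← Equiv.Perm.mul_apply, ← zpow_add, ← zpow_add, add_comm i, add_comm j, zpow_add,
      zpow_add, Equiv.Perm.mul_apply, Equiv.Perm.mul_apply, hij]
  · intro y
    obtain ⟨k, hk⟩ := h y
    exact ⟨⟨T ^ k, ⟨k, rfl⟩⟩, hk⟩

variable {V : Type u} [AddCommGroup V] [Finite V] {G : Type v} [Group G] [DistribMulAction G V]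

/-- affine powers -/
theorem pow_aff {g : G} {b : V} {T : Equiv.Perm V} (hT : ∀ v, T v = g • v + b) (k : ℕ) (v : V) :
    (T ^ k) v = g ^ k • v + (T ^ k) 0 := by
  induction k generalizing v with
  | zero => simp
  | succ k ih =>
    rw [pow_succ', Equiv.Perm.mul_apply, Equiv.Perm.mul_apply, hT, hT, ih v, smul_add, add_assoc, pow_succ', mul_smul]

/-- the normalized situation -/
theorem norm_case {p : ℕ} (hp : p.Prime) (hexp : ∀ v : V, p • v = 0) (irr : Irr G V) {g : G} {b : V}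
    {T : Equiv.Perm V} (hT : ∀ v, T v = g • v + b) {u w : V} (hcov : ∀ v, T.SameCycle u v ∨ T.SameCycle w v)
    {E m : ℕ} (hm : ¬ p ∣ m) (hTm : (T ^ p ^ E) ^ m = 1) (h0 : (T ^ p ^ E) 0 = 0) :
    T ^ p ^ E = 1 ∨ ∃ a c : V, ∀ v : V, v ≠ 0 → Rel G a v ∨ Rel G c v := by
  classical
  set s : G := g ^ p ^ E with hs
  have hS : ∀ v, (T ^ p ^ E) v = s • v := by
    intro v
    rw [pow_aff hT, h0, add_zero]
  have hSk : ∀ (k : ℕ) (v : V), ((T ^ p ^ E) ^ k) v = s ^ k • v := by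
    intro k
    induction k with
    | zero => intro v; simp
    | succ k ih => intro v; rw [pow_succ', Equiv.Perm.mul_apply, ih, hS, pow_succ', mul_smul]
  have hsm : ∀ v : V, s ^ m • v = v := by
    intro v
    rw [← hSk, hTm]
    rfl
  obtain ⟨a, ha⟩ := exists_inv hp hexp hm
  -- `V₁`
  let V₁ : AddSubgroup V :=
    { carrier := {v | s • v = v}
      zero_mem' := smul_zero s
      add_mem' := fun {x y} hx hy => by
        change s • (x + y) = x + y
        rw [smul_add, show s • x = x from hx, show s • y = y from hy]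
      neg_mem' := fun {x} hx => by
        change s • (-x) = -x
        rw [smul_neg, show s • x = x from hx] }
  have hV₁ : ∀ v, v ∈ V₁ ↔ s • v = v := fun v => Iff.rfl
  let P : V →+ V := ∑ i ∈ Finset.range m, DistribSMul.toAddMonoidHom V (s ^ i)
  have hP : ∀ v, P v = ∑ i ∈ Finset.range m, s ^ i • v := by
    intro v
    simp [P]
  have hsP : ∀ v, s • P v = P v := by
    intro v
    rw [hP, Finset.smul_sum]
    have h1 : ∀ i ∈ Finset.range m, s • s ^ i • v = s ^ (i + 1) • v := by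
      intro i _
      rw [← mul_smul, ← pow_succ']
    rw [Finset.sum_congr rfl h1]
    have h4 := Finset.sum_range_succ' (fun i => s ^ i • v) m
    have h5 := Finset.sum_range_succ (fun i => s ^ i • v) m
    rw [h5, hsm, pow_zero, one_smul] at h4
    exact (add_right_cancel h4).symm
  have hPm : ∀ v ∈ V₁, P v = m • v := by
    intro v hv
    rw [hP]
    have h1 : ∀ i : ℕ, s ^ i • v = v := by
      intro i
      induction i with
      | zero => simp
      | succ i ih => rw [pow_succ', mul_smul, ih, show s • v = v from hv]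
    rw [Finset.sum_congr rfl (fun i _ => h1 i), Finset.sum_const, Finset.card_range]
  let V₂ : AddSubgroup V := P.ker
  have hspan : ∀ v, ∃ x ∈ V₁, ∃ y ∈ V₂, v = x + y := by
    intro v
    refine ⟨a • P v, V₁.zsmul_mem (hsP v) a, v - a • P v, ?_, by abel⟩
    change P (v - a • P v) = 0
    rw [map_sub, map_zsmul, hPm (P v) (hsP v), ← natCast_zsmul, ← mul_smul, ha, sub_self]
  have hdisj : ∀ v, v ∈ V₁ → v ∈ V₂ → v = 0 := by
    intro v h1 h2
    have h3 : P v = 0 := h2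
    rw [hPm v h1] at h3
    rw [← ha v, mul_smul, natCast_zsmul, h3, smul_zero]
  have hcomm : ∀ (i k : ℕ) (v : V), s ^ i • g ^ k • v = g ^ k • s ^ i • v := by
    intro i k v
    rw [← mul_smul, ← mul_smul, hs, ← pow_mul, ← pow_add, ← pow_add, add_comm]
  have hgV₂ : ∀ (k : ℕ), ∀ v ∈ V₂, g ^ k • v ∈ V₂ := by
    intro k v hv
    change P (g ^ k • v) = 0
    have h1 : P v = 0 := hv
    rw [hP, Finset.sum_congr rfl (fun i _ => hcomm i k v), ← Finset.smul_sum, ← hP, h1, smul_zero]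
  have hgV₁ : ∀ (k : ℕ), ∀ v ∈ V₁, g ^ k • v ∈ V₁ := by
    intro k v hv
    change s • g ^ k • v = g ^ k • v
    have h1 := hcomm 1 k v
    rw [pow_one] at h1
    rw [h1, show s • v = v from hv]
  have hTV₁ : ∀ v, T v ∈ V₁ ↔ v ∈ V₁ := by
    intro v
    rw [hV₁, hV₁, ← hS, ← hS, ← Equiv.Perm.mul_apply, ← pow_succ, pow_succ', Equiv.Perm.mul_apply]
    exact T.injective.eq_iff
  have hTk0 : ∀ k : ℕ, (T ^ k) 0 ∈ V₁ := by
    intro k
    induction k with
    | zero => exact V₁.zero_mem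
    | succ k ih => rw [pow_succ', Equiv.Perm.mul_apply, hTV₁]; exact ih
  by_cases hV₂0 : V₂ = ⊥
  · left
    ext v
    obtain ⟨x, hx, y, hy, hxy⟩ := hspan v
    rw [hV₂0, AddSubgroup.mem_bot] at hy
    rw [hy, add_zero] at hxy
    rw [hS, Equiv.Perm.one_apply, hxy]
    exact hx
  right
  obtain ⟨w₀, hw₀, hw₀0⟩ : ∃ w ∈ V₂, w ≠ 0 := by
    by_contra hcon
    push Not at hcon
    exact hV₂0 ((AddSubgroup.eq_bot_iff_forall V₂).2 hcon)
  have hw₀1 : w₀ ∉ V₁ := fun h => hw₀0 (hdisj w₀ h hw₀)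
  have F := two_class hcov (fun v => v ∈ V₁) hTV₁ (x₀ := 0) V₁.zero_mem hw₀1
  by_cases hV₁0 : V₁ = ⊥
  · refine ⟨w₀, w₀, fun v hv => Or.inl ?_⟩
    have hv1 : v ∉ V₁ := by
      rw [hV₁0, AddSubgroup.mem_bot]
      exact hv
    obtain ⟨k, -, hk⟩ := (F w₀ v (iff_of_false hw₀1 hv1)).exists_pow_eq'
    have h1 := hTk0 k
    rw [hV₁0, AddSubgroup.mem_bot] at h1
    rw [pow_aff hT, h1, add_zero] at hk
    exact ⟨g ^ k, hk⟩
  -- both non-trivial
  have hw' : ∀ v ∈ V₂, v ≠ 0 → v ∉ V₁ := fun v hv hv0 h => hv0 (hdisj v h hv)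
  have htr : ∀ w ∈ V₂, w ≠ 0 → ∀ w' ∈ V₂, w' ≠ 0 → ∃ h : G, (∀ v ∈ V₁, h • v = v) ∧ h • w = w' := by
    intro w hw hw0 w' hw'2 hw'0
    obtain ⟨k, -, hk⟩ := (F w w' (iff_of_false (hw' w hw hw0) (hw' w' hw'2 hw'0))).exists_pow_eq'
    rw [pow_aff hT] at hk
    have h1 : (T ^ k) 0 ∈ V₂ := by
      have h2 : (T ^ k) 0 = w' - g ^ k • w := by rw [← hk]; abel
      rw [h2]
      exact V₂.sub_mem hw'2 (hgV₂ k w hw)
    have h2 : (T ^ k) 0 = 0 := hdisj _ (hTk0 k) h1
    rw [h2, add_zero] at hk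
    refine ⟨g ^ k, fun v hv => ?_, hk⟩
    obtain ⟨j, -, rfl⟩ := (F 0 v (iff_of_true V₁.zero_mem hv)).exists_pow_eq'
    have h3 := pow_aff hT k ((T ^ j) 0)
    rw [h2, add_zero] at h3
    rw [← h3, ← Equiv.Perm.mul_apply, ← pow_add, add_comm, pow_add, Equiv.Perm.mul_apply, h2]
  -- the restriction to `V₁`
  let T₁ : Equiv.Perm V₁ := T.subtypePerm hTV₁
  have hT₁ : ∀ x : V₁, (T₁ x : V) = T x := fun x => rfl
  have hT₁k : ∀ (k : ℕ) (x : V₁), ((T₁ ^ k) x : V) = (T ^ k) x := by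
    intro k
    induction k with
    | zero => intro x; rfl
    | succ k ih => intro x; rw [pow_succ', pow_succ', Equiv.Perm.mul_apply, Equiv.Perm.mul_apply, hT₁, ih]
  have hcardV₁ : orderOf T₁ = Nat.card V₁ := by
    refine orderOf_eq_card T₁ ⟨0, V₁.zero_mem⟩ fun y => ?_
    obtain ⟨j, -, hj⟩ := (F 0 y (iff_of_true V₁.zero_mem y.2)).exists_pow_eq'
    refine ⟨(j : ℤ), Subtype.ext ?_⟩
    rw [zpow_natCast, hT₁k, ← hj]
  have hT₁E : T₁ ^ p ^ E = 1 := by
    ext x
    rw [hT₁k, hS]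
    exact x.2
  obtain ⟨r, -, hr⟩ := (Nat.dvd_prime_pow hp).1 (orderOf_dvd_of_pow_eq_one hT₁E)
  have hr1 : 1 ≤ r := by
    by_contra hcon
    have h1 : r = 0 := by omega
    rw [h1, pow_zero, hcardV₁] at hr
    apply hV₁0
    exact AddSubgroup.eq_bot_of_card_le V₁ hr.le
  obtain ⟨-, h2⟩ := aff_order (V := V₁) (m := r) hp (fun v => Subtype.ext (hexp v)) (by rw [← hcardV₁, hr]) T₁
    (fun v => ⟨g • v.1, by simpa using hgV₁ 1 v.1 v.2⟩) (fun x y => Subtype.ext (smul_add g x.1 y.1))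
    ⟨T 0, by simpa using hTk0 1⟩ (fun v => Subtype.ext (by
      have h3 : T v.1 = g • v.1 + T 0 := by simpa using pow_aff hT 1 v.1
      exact h3)) hr1 hr
  obtain ⟨h3, h4⟩ := h2 rfl
  have hcV : Nat.card V₁ = p ^ r := by rw [← hcardV₁, hr]
  have honto : Nat.card V₁ ≤ Nat.card V₂ → ∀ h : G, (∀ v ∈ V₂, h • v ∈ V₁) → ∀ v ∈ V₁, ∃ w ∈ V₂, h • w = v := by
    intro hle h hh v hv
    let f : V₂ → V₁ := fun x => ⟨h • x.1, hh x.1 x.2⟩
    have hf : Function.Injective f := by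
      intro x y hxy
      have h5 : h • x.1 = h • y.1 := congrArg Subtype.val hxy
      exact Subtype.ext (smul_left_cancel h h5)
    obtain ⟨x, hx⟩ := (hf.bijective_of_nat_card_le hle).2 ⟨v, hv⟩
    exact ⟨x.1, x.2, congrArg Subtype.val hx⟩
  have hpr : Fact p.Prime := ⟨hp⟩
  have hpV₂ : p ∣ Nat.card V₂ := by
    have h5 : addOrderOf (⟨w₀, hw₀⟩ : V₂) = p :=
      addOrderOf_eq_prime (Subtype.ext (hexp w₀)) fun h => hw₀0 (congrArg Subtype.val h)
    rw [← h5]
    exact addOrderOf_dvd_natCard _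
  have hV₂pos : 0 < Nat.card V₂ := Nat.card_pos
  have hr2 : r = 1 ∨ r = 2 ∧ p = 2 := by
    have := hp.two_le
    by_cases h5 : 2 < p
    · left
      have := h4 h5
      omega
    · omega
  rcases hr2 with hr2 | ⟨hr2, hp2⟩
  · rw [hr2, pow_one] at hcV
    have hle : Nat.card V₁ ≤ Nat.card V₂ := by
      rw [hcV]
      exact Nat.le_of_dvd hV₂pos hpV₂
    exact Split.two_of_prime (V₁ := V₁) (V₂ := V₂) ⟨irr, hV₁0, hV₂0, hdisj, hspan, htr, honto hle⟩ hp hexp hcV
  · subst hp2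
    rw [hr2] at hcV hr
    have hle : Nat.card V₁ ≤ Nat.card V₂ := by
      rw [hcV]
      have h6 : s • w₀ ∈ V₂ := hgV₂ _ w₀ hw₀
      have h7 : s • w₀ ≠ w₀ := hw₀1
      have h8 : s • w₀ ≠ 0 := Rel.ne_zero ⟨s, rfl⟩ hw₀0
      have h5 : 3 ≤ Nat.card V₂ := by
        have := Fintype.ofFinite V₂
        rw [Nat.card_eq_fintype_card]
        let t : Finset V₂ := {⟨0, V₂.zero_mem⟩, ⟨w₀, hw₀⟩, ⟨s • w₀, h6⟩}
        have ht : t.card = 3 := by
          rw [Finset.card_insert_of_notMem, Finset.card_insert_of_notMem, Finset.card_singleton]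
          · simp only [Finset.mem_singleton, Subtype.mk.injEq]; exact Ne.symm h7
          · simp only [Finset.mem_insert, Finset.mem_singleton, Subtype.mk.injEq, not_or]
            exact ⟨Ne.symm hw₀0, Ne.symm h8⟩
        have h9 := Finset.card_le_univ t
        omega
      omega
    obtain ⟨x, hx, hgx⟩ : ∃ x ∈ V₁, g • x ≠ x := by
      by_contra hcon
      push Not at hcon
      have h5 : T₁ ^ 2 = 1 := by
        ext x
        rw [hT₁k, pow_aff hT 2, pow_two, mul_smul, hcon x.1 x.2, hcon x.1 x.2, pow_two, Equiv.Perm.mul_apply]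
        have h6 : T (T 0) = T 0 + T 0 := by
          have h7 : T (T 0) = g • T 0 + T 0 := by simpa using pow_aff hT 1 (T 0)
          rw [h7, hcon (T 0) (by simpa using hTk0 1)]
        rw [h6, ← two_nsmul, hexp, add_zero]
        rfl
      have h6 := orderOf_dvd_of_pow_eq_one h5
      rw [hr] at h6
      norm_num at h6
    exact Split.two_of_four (V₁ := V₁) (V₂ := V₂) ⟨irr, hV₁0, hV₂0, hdisj, hspan, htr, honto hle⟩ hexp
      (by rw [hcV]; norm_num) (g := g) (fun v hv => by simpa using hgV₁ 1 v hv) (fun v hv => by simpa using hgV₂ 1 v hv)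
      hx hgx

end Cfsg.Agent.H549.TwoCyc
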