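import Cfsg.Agent.H549.TwoCyc.AffBase

/-!
# Affine groups with an element with two cycles: fusion (helper549, for S3507)

`V = V₁ ⊕ V₂`, the group is irreducible and contains elements which are trivial on `V₁` and transitive on `V₂ \ {0}`.
-/

set_option autoImplicit false
set_option linter.unusedSectionVars false

namespace Cfsg.Agent.H549.TwoCyc

open MulAction

universe u v

variable {V : Type u} [AddCommGroup V] [Finite V] (G : Type v) [Group G] [DistribMulAction G V]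

/-- same orbit -/
def Rel (x y : V) : Prop := ∃ h : G, h • x = y

/-- irreducible -/
def Irr (V : Type u) [AddCommGroup V] [DistribMulAction G V] : Prop :=
  ∀ W : AddSubgroup V, (∀ (h : G), ∀ v ∈ W, h • v ∈ W) → W = ⊥ ∨ W = ⊤

variable {G}

theorem Rel.refl (x : V) : Rel G x x := ⟨1, one_smul G x⟩

theorem Rel.symm {x y : V} (h : Rel G x y) : Rel G y x := by
  obtain ⟨g, rfl⟩ := h
  exact ⟨g⁻¹, inv_smul_smul g x⟩

theorem Rel.trans {x y z : V} (h : Rel G x y) (h' : Rel G y z) : Rel G x z := by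
  obtain ⟨g, rfl⟩ := h
  obtain ⟨g', rfl⟩ := h'
  exact ⟨g' * g, mul_smul g' g x⟩

theorem Rel.nsmul {x y : V} (h : Rel G x y) (k : ℕ) : Rel G (k • x) (k • y) := by
  obtain ⟨g, rfl⟩ := h
  refine ⟨g, ?_⟩
  induction k with
  | zero => rw [zero_smul, zero_smul, smul_zero]
  | succ k ih => rw [succ_nsmul, succ_nsmul, smul_add, ih]

theorem Rel.ne_zero {x y : V} (h : Rel G x y) (hx : x ≠ 0) : y ≠ 0 := by
  obtain ⟨g, rfl⟩ := h
  intro h0
  apply hx
  rw [← inv_smul_smul g x, h0, smul_zero]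

/-- the splitting -/
structure Split (V₁ V₂ : AddSubgroup V) : Prop where
  irr : Irr G V
  ne₁ : V₁ ≠ ⊥
  ne₂ : V₂ ≠ ⊥
  disj : ∀ v, v ∈ V₁ → v ∈ V₂ → v = 0
  span : ∀ v, ∃ a ∈ V₁, ∃ b ∈ V₂, v = a + b
  tr : ∀ w ∈ V₂, w ≠ 0 → ∀ w' ∈ V₂, w' ≠ 0 → ∃ h : G, (∀ v ∈ V₁, h • v = v) ∧ h • w = w'
  onto : ∀ h : G, (∀ v ∈ V₂, h • v ∈ V₁) → ∀ v ∈ V₁, ∃ w ∈ V₂, h • w = v

variable {V₁ V₂ : AddSubgroup V}

theorem Split.rel_add (S : Split (G := G) V₁ V₂) {v w w' : V} (hv : v ∈ V₁) (hw : w ∈ V₂) (hw0 : w ≠ 0) (hw' : w' ∈ V₂)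
    (hw0' : w' ≠ 0) : Rel G (v + w) (v + w') := by
  obtain ⟨h, h1, h2⟩ := S.tr w hw hw0 w' hw' hw0'
  exact ⟨h, by rw [smul_add, h1 v hv, h2]⟩

theorem Split.rel_two (S : Split (G := G) V₁ V₂) {w w' : V} (hw : w ∈ V₂) (hw0 : w ≠ 0) (hw' : w' ∈ V₂)
    (hw0' : w' ≠ 0) : Rel G w w' := by
  have h := S.rel_add V₁.zero_mem hw hw0 hw' hw0'
  rwa [zero_add, zero_add] at h

theorem Split.exists_two (S : Split (G := G) V₁ V₂) : ∃ w ∈ V₂, w ≠ 0 := by
  by_contra hcon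
  push Not at hcon
  exact S.ne₂ ((AddSubgroup.eq_bot_iff_forall V₂).2 hcon)

/-- every non-zero element of `V₁` is moved out of `V₁` -/
theorem Split.out (S : Split (G := G) V₁ V₂) {v : V} (hv0 : v ≠ 0) : ∃ a ∈ V₁, ∃ w ∈ V₂, w ≠ 0 ∧ Rel G v (a + w) := by
  by_contra hcon
  push Not at hcon
  have h1 : ∀ h : G, h • v ∈ V₁ := by
    intro h
    obtain ⟨a, ha, b, hb, hab⟩ := S.span (h • v)
    by_cases hb0 : b = 0
    · rw [hab, hb0, add_zero]
      exact ha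
    · exact absurd ⟨h, hab⟩ (hcon a ha b hb hb0)
  have h2 : ∀ (h : G), ∀ x ∈ AddSubgroup.closure (orbit G v), h • x ∈ AddSubgroup.closure (orbit G v) := by
    intro h x hx
    induction hx using AddSubgroup.closure_induction with
    | mem x hx =>
      obtain ⟨k, rfl⟩ := hx
      refine AddSubgroup.subset_closure ⟨h * k, mul_smul h k v⟩
    | zero => rw [smul_zero]; exact zero_mem _
    | add x y _ _ hx hy => rw [smul_add]; exact add_mem hx hy
    | neg x _ hx => rw [smul_neg]; exact neg_mem hx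
  have h3 : AddSubgroup.closure (orbit G v) ≤ V₁ := by
    rw [AddSubgroup.closure_le]
    rintro _ ⟨h, rfl⟩
    exact h1 h
  rcases S.irr _ h2 with h4 | h4
  · apply hv0
    have h5 : v ∈ AddSubgroup.closure (orbit G v) := AddSubgroup.subset_closure (mem_orbit_self v)
    rwa [h4, AddSubgroup.mem_bot] at h5
  · rw [h4, top_le_iff] at h3
    obtain ⟨w, hw, hw0⟩ := S.exists_two
    exact hw0 (S.disj w (h3 ▸ AddSubgroup.mem_top w) hw)

/-- **The dichotomy.** -/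
theorem Split.dich (S : Split (G := G) V₁ V₂) :
    (∃ v₀ ∈ V₁, v₀ ≠ 0 ∧ ∀ w ∈ V₂, w ≠ 0 → Rel G (v₀ + w) w) ∨
    (∀ v ∈ V₁, v ≠ 0 → ∀ v' ∈ V₁, v' ≠ 0 → ∀ w ∈ V₂, w ≠ 0 → ∀ w' ∈ V₂, w' ≠ 0 → Rel G (v + w) (v' + w')) := by
  -- the final step of (A)
  have hA : ∀ (h : G) (x a b : V), x ∈ V₂ → a ∈ V₁ → b ∈ V₂ → a ≠ 0 → b ≠ 0 → h • x = a + b →
      ∃ v₀ ∈ V₁, v₀ ≠ 0 ∧ ∀ w ∈ V₂, w ≠ 0 → Rel G (v₀ + w) w := by
    intro h x a b hx ha hb ha0 hb0 hxab
    have hx0 : x ≠ 0 := by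
      rintro rfl
      rw [smul_zero] at hxab
      apply ha0
      have h1 : a = -b := eq_neg_of_add_eq_zero_left hxab.symm
      exact S.disj a ha (h1 ▸ V₂.neg_mem hb)
    refine ⟨a, ha, ha0, fun w hw hw0 => ?_⟩
    exact (S.rel_add ha hw hw0 hb hb0).trans ((Rel.symm ⟨h, hxab⟩).trans (S.rel_two hx hx0 hw hw0))
  -- `V₂` is not invariant
  obtain ⟨h, x, hx, hhx⟩ : ∃ (h : G) (x : V), x ∈ V₂ ∧ h • x ∉ V₂ := by
    by_contra hcon
    push Not at hcon
    rcases S.irr V₂ (fun h v hv => hcon h v hv) with h1 | h1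
    · exact S.ne₂ h1
    · apply S.ne₁
      rw [AddSubgroup.eq_bot_iff_forall]
      intro v hv
      exact S.disj v hv (h1 ▸ AddSubgroup.mem_top v)
  obtain ⟨a, ha, b, hb, hab⟩ := S.span (h • x)
  have ha0 : a ≠ 0 := by
    rintro rfl
    rw [zero_add] at hab
    exact hhx (hab ▸ hb)
  by_cases hb0 : b = 0
  swap
  · exact Or.inl (hA h x a b hx ha hb ha0 hb0 hab)
  rw [hb0, add_zero] at hab
  by_cases hall : ∀ y ∈ V₂, h • y ∈ V₁
  · have honto := S.onto h hall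
    by_cases hc : ∃ v ∈ V₁, v ≠ 0 ∧ ∃ c ∈ V₂, h • v = c
    · obtain ⟨v, hv, hv0, c, hc, hhv⟩ := hc
      have hc0 : c ≠ 0 := Rel.ne_zero ⟨h, hhv⟩ hv0
      right
      have key : ∀ u ∈ V₁, u ≠ 0 → ∀ w ∈ V₂, w ≠ 0 → Rel G (u + c) (v + w) := by
        intro u hu hu0 w hw hw0
        obtain ⟨y, hy, hhy⟩ := honto u hu
        have hy0 : y ≠ 0 := by
          rintro rfl
          rw [smul_zero] at hhy
          exact hu0 hhy.symm
        refine Rel.trans (Rel.symm ⟨h, ?_⟩) (S.rel_add hv hy hy0 hw hw0)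
        rw [smul_add, hhv, hhy, add_comm]
      intro u hu hu0 u' hu' hu0' w hw hw0 w' hw' hw0'
      exact (S.rel_add hu hw hw0 hc hc0).trans (((key u hu hu0 w hw hw0).trans (key u' hu' hu0' w hw hw0).symm).trans
        (S.rel_add hu' hc hc0 hw' hw0'))
    · push Not at hc
      left
      obtain ⟨v, hv, hv0⟩ : ∃ v ∈ V₁, v ≠ 0 := ⟨a, ha, ha0⟩
      obtain ⟨c₁, hc₁, c₂, hc₂, hcc⟩ := S.span (h • v)
      have hc₁0 : c₁ ≠ 0 := by
        rintro rfl
        rw [zero_add] at hcc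
        exact hc v hv hv0 c₂ hc₂ hcc
      have hc₂0 : c₂ ≠ 0 := by
        rintro rfl
        rw [add_zero] at hcc
        obtain ⟨y, hy, hhy⟩ := honto (h • v) (hcc ▸ hc₁)
        have h1 : y = v := smul_left_cancel h hhy
        exact hv0 (S.disj v hv (h1 ▸ hy))
      obtain ⟨y, hy, hhy⟩ := honto (-c₁) (V₁.neg_mem hc₁)
      have hy0 : y ≠ 0 := by
        rintro rfl
        rw [smul_zero] at hhy
        exact hc₁0 (neg_eq_zero.1 hhy.symm)
      have h1 : h • (v + y) = c₂ := by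
        rw [smul_add, hcc, hhy, add_comm c₁, add_neg_cancel_right]
      refine ⟨v, hv, hv0, fun w hw hw0 => ?_⟩
      exact (S.rel_add hv hw hw0 hy hy0).trans (Rel.trans ⟨h, h1⟩ (S.rel_two hc₂ hc₂0 hw hw0))
  · push Not at hall
    obtain ⟨y, hy, hhy⟩ := hall
    obtain ⟨c₁, hc₁, c₂, hc₂, hcc⟩ := S.span (h • y)
    have hc₂0 : c₂ ≠ 0 := by
      rintro rfl
      rw [add_zero] at hcc
      exact hhy (hcc ▸ hc₁)
    left
    by_cases hc₁0 : c₁ = 0
    · refine hA h (x + y) a c₂ (V₂.add_mem hx hy) ha hc₂ ha0 hc₂0 ?_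
      rw [smul_add, hab, hcc, hc₁0, zero_add]
    · exact hA h y c₁ c₂ hy hc₁ hc₂ hc₁0 hc₂0 hcc

/-- `V₁` of order `p` -/
theorem Split.two_of_prime (S : Split (G := G) V₁ V₂) {p : ℕ} (hp : p.Prime) (hexp : ∀ v : V, p • v = 0)
    (hcard : Nat.card V₁ = p) : ∃ a c : V, ∀ v : V, v ≠ 0 → Rel G a v ∨ Rel G c v := by
  obtain ⟨w₀, hw₀, hw₀0⟩ := S.exists_two
  rcases S.dich with ⟨v₀, hv₀, hv₀0, h1⟩ | h1
  · refine ⟨w₀, w₀, fun v hv => Or.inl ?_⟩
    obtain ⟨a, ha, w, hw, hw0, hvw⟩ := S.out hv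
    refine Rel.symm (hvw.trans ?_)
    -- `a` is a multiple of `v₀`
    have h2 : AddSubgroup.zmultiples (⟨v₀, hv₀⟩ : V₁) = ⊤ := by
      have hpr : Fact p.Prime := ⟨hp⟩
      apply AddSubgroup.eq_top_of_card_eq
      rw [Nat.card_zmultiples, hcard]
      refine addOrderOf_eq_prime ?_ ?_
      · exact Subtype.ext (hexp v₀)
      · intro h
        exact hv₀0 (congrArg Subtype.val h)
    have h3 : (⟨a, ha⟩ : V₁) ∈ AddSubgroup.zmultiples (⟨v₀, hv₀⟩ : V₁) := h2 ▸ AddSubgroup.mem_top _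
    obtain ⟨k, hk⟩ := AddSubgroup.mem_zmultiples_iff.1 h3
    have hk' : a = (k % p).toNat • v₀ := by
      have h4 : k • v₀ = a := congrArg Subtype.val hk
      rw [← h4]
      have h5 : (0 : ℤ) ≤ k % p := Int.emod_nonneg _ (by exact_mod_cast hp.ne_zero)
      have h6 : k = (k % p).toNat + p * (k / p) := by
        rw [Int.toNat_of_nonneg h5]
        exact (Int.emod_add_mul_ediv k p).symm
      nth_rewrite 1 [h6]
      rw [add_smul, natCast_zsmul, mul_comm, mul_smul, natCast_zsmul, hexp, smul_zero, add_zero]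
    set j := (k % p).toNat with hj
    by_cases hj0 : j • w₀ = 0
    · -- then `a = 0`
      have h5 : a = 0 := by
        have hjp : p ∣ j := by
          by_contra hnd
          obtain ⟨c, hc⟩ := exists_inv hp hexp hnd
          apply hw₀0
          rw [← hc w₀, mul_smul, natCast_zsmul, hj0, smul_zero]
        obtain ⟨t, ht⟩ := hjp
        rw [hk', ht, mul_comm, mul_smul, hexp, smul_zero]
      rw [h5, zero_add]
      exact S.rel_two hw hw0 hw₀ hw₀0
    · have h5 : Rel G (j • (v₀ + w₀)) (j • w₀) := (h1 w₀ hw₀ hw₀0).nsmul j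
      rw [smul_add, ← hk'] at h5
      have h6 : j • w₀ ∈ V₂ := V₂.nsmul_mem hw₀ j
      exact (S.rel_add ha hw hw0 h6 hj0).trans (h5.trans (S.rel_two h6 hj0 hw₀ hw₀0))
  · obtain ⟨v₀, hv₀, hv₀0⟩ : ∃ v ∈ V₁, v ≠ 0 := by
      by_contra hcon
      push Not at hcon
      exact S.ne₁ ((AddSubgroup.eq_bot_iff_forall V₁).2 hcon)
    refine ⟨w₀, v₀ + w₀, fun v hv => ?_⟩
    obtain ⟨a, ha, w, hw, hw0, hvw⟩ := S.out hv
    by_cases ha0 : a = 0
    · left
      rw [ha0, zero_add] at hvw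
      exact Rel.symm (hvw.trans (S.rel_two hw hw0 hw₀ hw₀0))
    · right
      exact Rel.symm (hvw.trans (h1 a ha ha0 v₀ hv₀ hv₀0 w hw hw0 w₀ hw₀ hw₀0))

/-- `V₁` of order `4`, `g` not trivial on `V₁` -/
theorem Split.two_of_four (S : Split (G := G) V₁ V₂) (hexp : ∀ v : V, 2 • v = 0) (hcard : Nat.card V₁ = 4)
    {g : G} (hg₁ : ∀ v ∈ V₁, g • v ∈ V₁) (hg₂ : ∀ v ∈ V₂, g • v ∈ V₂) {x : V} (hx : x ∈ V₁) (hgx : g • x ≠ x) :
    ∃ a c : V, ∀ v : V, v ≠ 0 → Rel G a v ∨ Rel G c v := by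
  obtain ⟨w₀, hw₀, hw₀0⟩ := S.exists_two
  set y := g • x with hy
  have hyV : y ∈ V₁ := hg₁ x hx
  have hx0 : x ≠ 0 := by
    rintro rfl
    exact hgx (smul_zero g)
  have hy0 : y ≠ 0 := Rel.ne_zero ⟨g, hy.symm⟩ hx0
  have hself : ∀ v : V, v + v = 0 := fun v => by rw [← two_nsmul]; exact hexp v
  have hxy0 : x + y ≠ 0 := by
    intro h
    apply hgx
    have h1 : x + y = x + x := by rw [h, hself]
    exact add_left_cancel h1
  -- the four elements
  have hfour : ∀ a ∈ V₁, a = 0 ∨ a = x ∨ a = y ∨ a = x + y := by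
    intro a ha
    by_contra hcon
    push Not at hcon
    obtain ⟨h0, h1, h2, h3⟩ := hcon
    classical
    have := Fintype.ofFinite V₁
    rw [Nat.card_eq_fintype_card] at hcard
    let s : Finset V₁ := {⟨0, V₁.zero_mem⟩, ⟨x, hx⟩, ⟨y, hyV⟩, ⟨x + y, V₁.add_mem hx hyV⟩, ⟨a, ha⟩}
    have hs : s.card = 5 := by
      have e1 : x ≠ x + y := fun h => hy0 (left_eq_add.1 h)
      have e2 : y ≠ x + y := fun h => hx0 (right_eq_add.1 h)
      rw [Finset.card_insert_of_notMem, Finset.card_insert_of_notMem, Finset.card_insert_of_notMem,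
        Finset.card_insert_of_notMem, Finset.card_singleton]
      · simp only [Finset.mem_singleton, Subtype.mk.injEq]; exact Ne.symm h3
      · simp only [Finset.mem_insert, Finset.mem_singleton, Subtype.mk.injEq, not_or]
        exact ⟨e2, Ne.symm h2⟩
      · simp only [Finset.mem_insert, Finset.mem_singleton, Subtype.mk.injEq, not_or]
        exact ⟨Ne.symm hgx, e1, Ne.symm h1⟩
      · simp only [Finset.mem_insert, Finset.mem_singleton, Subtype.mk.injEq, not_or]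
        exact ⟨Ne.symm hx0, Ne.symm hy0, Ne.symm hxy0, Ne.symm h0⟩
    have h5 := Finset.card_le_univ s
    omega
  -- `E_x ~ E_y`
  have hExy : ∀ w ∈ V₂, w ≠ 0 → Rel G (x + w) (y + w) := by
    intro w hw hw0
    have h1 : g • w ∈ V₂ := hg₂ w hw
    have h2 : g • w ≠ 0 := Rel.ne_zero ⟨g, rfl⟩ hw0
    refine Rel.trans ⟨g, smul_add g x w⟩ (S.rel_add hyV h1 h2 hw hw0)
  -- it suffices to treat the `v' + w₀`
  have hred : ∀ a c : V, (∀ v' ∈ V₁, Rel G a (v' + w₀) ∨ Rel G c (v' + w₀)) → ∀ v : V, v ≠ 0 → Rel G a v ∨ Rel G c v := by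
    intro a c h v hv
    obtain ⟨v', hv', w, hw, hw0, hvw⟩ := S.out hv
    have h1 : Rel G (v' + w₀) v := (S.rel_add hv' hw₀ hw₀0 hw hw0).trans hvw.symm
    exact (h v' hv').imp (fun h2 => h2.trans h1) fun h2 => h2.trans h1
  rcases S.dich with ⟨v₀, hv₀, hv₀0, h1⟩ | h1
  · have h2 := h1 w₀ hw₀ hw₀0
    rcases hfour v₀ hv₀ with h3 | h3 | h3 | h3
    · exact absurd h3 hv₀0
    · rw [h3] at h2
      refine ⟨w₀, (x + y) + w₀, hred _ _ fun v' hv' => ?_⟩
      rcases hfour v' hv' with rfl | rfl | rfl | rfl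
      · exact Or.inl (by rw [zero_add]; exact Rel.refl _)
      · exact Or.inl h2.symm
      · exact Or.inl (h2.symm.trans (hExy w₀ hw₀ hw₀0))
      · exact Or.inr (Rel.refl _)
    · rw [h3] at h2
      refine ⟨w₀, (x + y) + w₀, hred _ _ fun v' hv' => ?_⟩
      rcases hfour v' hv' with rfl | rfl | rfl | rfl
      · exact Or.inl (by rw [zero_add]; exact Rel.refl _)
      · exact Or.inl (h2.symm.trans (hExy w₀ hw₀ hw₀0).symm)
      · exact Or.inl h2.symm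
      · exact Or.inr (Rel.refl _)
    · rw [h3] at h2
      refine ⟨w₀, x + w₀, hred _ _ fun v' hv' => ?_⟩
      rcases hfour v' hv' with rfl | rfl | rfl | rfl
      · exact Or.inl (by rw [zero_add]; exact Rel.refl _)
      · exact Or.inr (Rel.refl _)
      · exact Or.inr (hExy w₀ hw₀ hw₀0)
      · exact Or.inl h2.symm
  · refine ⟨w₀, x + w₀, hred _ _ fun v' hv' => ?_⟩
    by_cases h2 : v' = 0
    · rw [h2, zero_add]
      exact Or.inl (Rel.refl _)
    · exact Or.inr (h1 x hx hx0 v' hv' h2 w₀ hw₀ hw₀0 w₀ hw₀ hw₀0)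

end Cfsg.Agent.H549.TwoCyc
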