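import Cfsg.Agent.H124.OSCoord
import Cfsg.Agent.H384.Cyc.Defs
import Cfsg.Agent.H549.TwoCyc.AffT

/-!
# TEAM TWOCYC (S3507): orders of the elements acting on a minimal normal subgroup `T ^ m` (helper549)

`exists_pow` : if all automorphisms of `T i` have order at most `M` then some power `g ^ L`, `0 < L ≤ M ^ m`, centralizes
`N = ∏ T i`.
-/

set_option autoImplicit false
set_option linter.unusedSectionVars false

namespace Cfsg.Agent.H549.TwoCyc.Diag

open MulAction Subgroup H384.Cyc H124.OSCoord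

universe u v

variable {G : Type u} [Group G] {N : Subgroup G} {m : ℕ} {T : Fin m → Subgroup G} {e : N ≃* (∀ i, T i)}

/-- the action on the factors -/
@[reducible]
noncomputable def act (C : Coo N T e) : MulAction G (Fin m) where
  smul g i := (C.conj g i).choose
  one_smul i := by
    apply C.inj
    have h1 := (C.conj 1 i).choose_spec
    change T (C.conj 1 i).choose = T i
    rw [h1, map_one]
    exact Subgroup.map_id _
  mul_smul g h i := by
    apply C.inj
    have h1 := (C.conj (g * h) i).choose_spec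
    have h2 := (C.conj h i).choose_spec
    have h3 := (C.conj g (C.conj h i).choose).choose_spec
    change T (C.conj (g * h) i).choose = T (C.conj g (C.conj h i).choose).choose
    rw [h1, h3, h2, Subgroup.map_map]
    congr 1
    rw [map_mul]
    rfl

theorem act_spec (C : Coo N T e) (g : G) (i : Fin m) :
    T ((act C).toSMul.smul g i) = (T i).map (MulAut.conj g).toMonoidHom := (C.conj g i).choose_spec

/-- an element with `T^g = T` -/
theorem mem_normalizer_of_map {A : Subgroup G} {g : G} (h : A = A.map (MulAut.conj g).toMonoidHom) :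
    g ∈ normalizer (A : Set G) := by
  rw [mem_normalizer_iff]
  intro x
  constructor
  · intro hx
    rw [h]
    exact ⟨x, hx, rfl⟩
  · intro hx
    rw [h] at hx
    obtain ⟨y, hy, hyx⟩ := hx
    have h1 : g * y * g⁻¹ = g * x * g⁻¹ := hyx
    have h2 : y = x := by
      have h3 := congrArg (fun z => g⁻¹ * z * g) h1
      simpa [mul_assoc] using h3
    rwa [← h2]

/-- a power of a normalizing element centralizes -/
theorem exists_centralize [Finite G] {A : Subgroup G} {M : ℕ} (hM : Mo ↥A M) {g : G}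
    (hg : g ∈ normalizer (A : Set G)) : ∃ a, 0 < a ∧ a ≤ M ∧ ∀ t ∈ A, Commute (g ^ a) t := by
  let φ : MulAut A := A.normalizerMonoidHom ⟨g, hg⟩
  refine ⟨orderOf φ, orderOf_pos φ, hM φ, fun t ht => ?_⟩
  have h1 : (⟨g, hg⟩ : ↥(normalizer (A : Set G))) ^ orderOf φ ∈ A.normalizerMonoidHom.ker := by
    rw [MonoidHom.mem_ker, map_pow]
    exact pow_orderOf_eq_one φ
  rw [normalizerMonoidHom_ker, mem_subgroupOf] at h1
  have h2 := (mem_centralizer_iff.1 h1) t ht
  exact h2.symm

/-- commuting with all factors -/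
theorem commute_of_factors [N.Normal] (C : Coo N T e) {x : G} (hx : ∀ i, ∀ t ∈ T i, Commute x t) {n : G} (hn : n ∈ N) :
    Commute x n := by
  have hx' : ∀ i, ∀ t ∈ T i, x * t * x⁻¹ = t := by
    intro i t ht
    rw [(hx i t ht).eq, mul_inv_cancel_right]
  have hn' : x * n * x⁻¹ ∈ N := Subgroup.Normal.conj_mem inferInstance n hn x
  let y : N := ⟨n, hn⟩⁻¹ * ⟨x * n * x⁻¹, hn'⟩
  have hy : y = 1 := by
    apply e.injective
    rw [map_one]
    funext i
    refine (C.coord y i).2 fun t ht => ?_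
    have h1 : n * t * n⁻¹ ∈ T i := ((mem_normalizer_iff.1 (C.norm i hn)) t).1 ht
    have h2 : x * n * x⁻¹ * t * (x * n * x⁻¹)⁻¹ = n * t * n⁻¹ := by
      have h3 : x⁻¹ * t * x = t := by
        have h4 := hx' i t ht
        calc x⁻¹ * t * x = x⁻¹ * (x * t * x⁻¹) * x := by rw [h4]
          _ = t := by group
      calc x * n * x⁻¹ * t * (x * n * x⁻¹)⁻¹ = x * (n * (x⁻¹ * t * x) * n⁻¹) * x⁻¹ := by group
        _ = x * (n * t * n⁻¹) * x⁻¹ := by rw [h3]
        _ = n * t * n⁻¹ := hx' i _ h1
    change Commute (n⁻¹ * (x * n * x⁻¹)) t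
    have h5 : n⁻¹ * (x * n * x⁻¹) * t = t * (n⁻¹ * (x * n * x⁻¹)) := by
      have h6 : x * n * x⁻¹ * t = n * t * n⁻¹ * (x * n * x⁻¹) := by rw [← h2]; group
      calc n⁻¹ * (x * n * x⁻¹) * t = n⁻¹ * (x * n * x⁻¹ * t) := by group
        _ = n⁻¹ * (n * t * n⁻¹ * (x * n * x⁻¹)) := by rw [h6]
        _ = t * (n⁻¹ * (x * n * x⁻¹)) := by group
    exact h5
  have h7 : n⁻¹ * (x * n * x⁻¹) = 1 := congrArg Subtype.val hy
  have h8 : x * n * x⁻¹ = n := (inv_mul_eq_one.1 h7).symm
  exact mul_inv_eq_iff_eq_mul.1 h8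

/-- **The order of the action on `N = ∏ T i`.** -/
theorem exists_pow [Finite G] [N.Normal] (C : Coo N T e) {M : ℕ} (hM2 : 2 ≤ M) (hM : ∀ i, Mo ↥(T i) M) (g : G) :
    ∃ L, 0 < L ∧ L ≤ M ^ m ∧ ∀ n ∈ N, Commute (g ^ L) n := by
  classical
  let A : MulAction G (Fin m) := act C
  have hact : ∀ (h : G) (i : Fin m), T (h • i) = (T i).map (MulAut.conj h).toMonoidHom := act_spec C
  let R := orbitRel.Quotient (zpowers g) (Fin m)
  have : Finite R := Quotient.finite _
  have := Fintype.ofFinite R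
  let c : R → ℕ := fun r => Nat.card (orbit (zpowers g) (r.out : Fin m))
  have hc : ∀ r : R, g ^ c r • (r.out : Fin m) = r.out := by
    intro r
    have h1 := Function.isPeriodicPt_minimalPeriod (g • ·) (r.out : Fin m)
    rw [MulAction.minimalPeriod_eq_card, ← Nat.card_eq_fintype_card] at h1
    change (g • ·)^[c r] (r.out : Fin m) = r.out at h1
    rwa [smul_iterate_apply] at h1
  have hc0 : ∀ r : R, 0 < c r := by
    intro r
    have : Nonempty (orbit (zpowers g) (r.out : Fin m)) := ⟨⟨_, mem_orbit_self _⟩⟩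
    exact Nat.card_pos
  have ha : ∀ r : R, ∃ a, 0 < a ∧ a ≤ M ∧ ∀ t ∈ T r.out, Commute ((g ^ c r) ^ a) t := fun r =>
    exists_centralize (hM _) (mem_normalizer_of_map (by
      have h1 := hact (g ^ c r) r.out
      rwa [hc] at h1))
  choose a ha0 haM hac using ha
  have hsum : ∑ r : R, c r = m := by
    have h1 := Nat.card_congr (selfEquivSigmaOrbits (zpowers g) (Fin m))
    rw [Nat.card_fin, Nat.card_sigma] at h1
    exact h1.symm
  refine ⟨∏ r : R, c r * a r, Finset.prod_pos fun r _ => Nat.mul_pos (hc0 r) (ha0 r), ?_, ?_⟩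
  · calc ∏ r : R, c r * a r ≤ ∏ r : R, M ^ c r := by
          refine Finset.prod_le_prod' fun r _ => ?_
          obtain ⟨k, hk⟩ := Nat.exists_eq_succ_of_ne_zero (hc0 r).ne'
          rw [hk, pow_succ]
          refine Nat.mul_le_mul ?_ (haM r)
          calc k + 1 ≤ 2 ^ k := Nat.lt_two_pow_self
            _ ≤ M ^ k := Nat.pow_le_pow_left hM2 k
      _ = M ^ m := by rw [Finset.prod_pow_eq_pow_sum, hsum]
  · intro n hn
    refine commute_of_factors C (fun i t ht => ?_) hn
    let r : R := Quotient.mk'' i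
    have hi : i ∈ orbit (zpowers g) (r.out : Fin m) := by
      have h1 : (orbitRel (zpowers g) (Fin m)) i r.out := Quotient.exact' (Quotient.out_eq' r).symm
      exact h1
    obtain ⟨⟨_, k, rfl⟩, hk⟩ := hi
    have hk' : g ^ k • (r.out : Fin m) = i := hk
    have h2 : t ∈ (T r.out).map (MulAut.conj (g ^ k)).toMonoidHom := by rw [← hact, hk']; exact ht
    obtain ⟨s, hs, rfl⟩ := h2
    change Commute _ (g ^ k * s * (g ^ k)⁻¹)
    have h3 : Commute (g ^ ∏ r : R, c r * a r) s := by
      obtain ⟨q, hq⟩ := Finset.dvd_prod_of_mem (fun r : R => c r * a r) (Finset.mem_univ r)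
      rw [hq, pow_mul, pow_mul]
      exact (hac r s hs).pow_left q
    have h4 : Commute (g ^ ∏ r : R, c r * a r) (g ^ k) := (Commute.refl g).pow_left _ |>.zpow_right k
    exact (h4.mul_right h3).mul_right h4.inv_right

end Cfsg.Agent.H549.TwoCyc.Diag
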