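import Cfsg.Agent.H549.TwoCyc.DiagMain
import Cfsg.Agent.UGT.A7.Five

/-!
# TEAM TWOCYC (S3507): types with a big degree, `T = A₅` (helper549)
-/

set_option autoImplicit false
set_option linter.unusedSectionVars false

namespace Cfsg.Agent.H549.TwoCyc.Diag

open MulAction Subgroup H384.Cyc H124.OSCoord

universe u v

/-! ### Facts on `A₅` -/

set_option maxRecDepth 100000 in
theorem perm_pow (σ : Equiv.Perm (Fin 5)) : σ ^ 4 = 1 ∨ σ ^ 5 = 1 ∨ σ ^ 6 = 1 := by
  revert σ
  decide +kernel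

set_option maxRecDepth 100000 in
theorem alt_pow (x : alternatingGroup (Fin 5)) : x ^ 2 = 1 ∨ x ^ 3 = 1 ∨ x ^ 5 = 1 := by
  revert x
  decide +kernel

theorem card_alt : Nat.card (alternatingGroup (Fin 5)) = 60 := by
  rw [Nat.card_eq_fintype_card]
  decide

theorem aut_pow (f : MulAut (alternatingGroup (Fin 5))) : f ^ 4 = 1 ∨ f ^ 5 = 1 ∨ f ^ 6 = 1 := by
  obtain ⟨σ, hσ⟩ := Cfsg.Agent.UGT.A7.Dg.exists_conj f
  have h1 : ∀ (k : ℕ) (x : alternatingGroup (Fin 5)),
      (((f ^ k) x : alternatingGroup (Fin 5)) : Equiv.Perm (Fin 5)) = σ ^ k * x * (σ ^ k)⁻¹ := by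
    intro k
    induction k with
    | zero => intro x; simp
    | succ k ih =>
      intro x
      rw [pow_succ', MulAut.mul_apply, hσ, ih, pow_succ']
      group
  have h2 : ∀ k : ℕ, σ ^ k = 1 → f ^ k = 1 := by
    intro k hk
    ext x : 1
    apply Subtype.ext
    rw [h1, hk, one_mul, inv_one, mul_one]
    rfl
  rcases perm_pow σ with h | h | h
  · exact Or.inl (h2 4 h)
  · exact Or.inr (Or.inl (h2 5 h))
  · exact Or.inr (Or.inr (h2 6 h))

theorem aut_pow' {A : Type*} [Group A] (e : A ≃* alternatingGroup (Fin 5)) (f : MulAut A) :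
    f ^ 4 = 1 ∨ f ^ 5 = 1 ∨ f ^ 6 = 1 := by
  have h := aut_pow (MulAut.congr e f)
  rw [← map_pow, ← map_pow, ← map_pow] at h
  have h1 : ∀ x : MulAut A, MulAut.congr e x = 1 → x = 1 := fun x hx =>
    (MulAut.congr e).injective (by rw [hx, map_one])
  exact h.imp (h1 _) (fun h => h.imp (h1 _) (h1 _))

theorem mo_six {A : Type*} [Group A] (e : A ≃* alternatingGroup (Fin 5)) : Mo A 6 := by
  intro f
  rcases aut_pow' e f with h | h | h
  · exact (Nat.le_of_dvd (by norm_num) (orderOf_dvd_of_pow_eq_one h)).trans (by norm_num)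
  · exact (Nat.le_of_dvd (by norm_num) (orderOf_dvd_of_pow_eq_one h)).trans (by norm_num)
  · exact Nat.le_of_dvd (by norm_num) (orderOf_dvd_of_pow_eq_one h)

theorem elt_pow {A : Type*} [Group A] (e : A ≃* alternatingGroup (Fin 5)) (x : A) :
    x ^ 2 = 1 ∨ x ^ 3 = 1 ∨ x ^ 5 = 1 := by
  have h := alt_pow (e x)
  rw [← map_pow, ← map_pow, ← map_pow] at h
  have h1 : ∀ x : A, e x = 1 → x = 1 := fun x hx => e.injective (by rw [hx, map_one])
  exact h.imp (h1 _) (fun h => h.imp (h1 _) (h1 _))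

variable {G : Type u} [Group G]

/-- orders of normalizing elements -/
theorem exists_cent_five {A : Subgroup G} (e : A ≃* alternatingGroup (Fin 5)) {g : G}
    (hg : g ∈ normalizer (A : Set G)) : ∃ a, (a = 4 ∨ a = 5 ∨ a = 6) ∧ g ^ a ∈ centralizer (A : Set G) := by
  let φ : MulAut A := A.normalizerMonoidHom ⟨g, hg⟩
  have h1 : ∀ a : ℕ, φ ^ a = 1 → g ^ a ∈ centralizer (A : Set G) := by
    intro a ha
    have h1 : (⟨g, hg⟩ : ↥(normalizer (A : Set G))) ^ a ∈ A.normalizerMonoidHom.ker := by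
      rw [MonoidHom.mem_ker, map_pow]
      exact ha
    rw [normalizerMonoidHom_ker, mem_subgroupOf] at h1
    exact h1
  rcases aut_pow' e φ with h | h | h
  · exact ⟨4, Or.inl rfl, h1 4 h⟩
  · exact ⟨5, Or.inr (Or.inl rfl), h1 5 h⟩
  · exact ⟨6, Or.inr (Or.inr rfl), h1 6 h⟩

/-- the final step -/
theorem order_le_25 {X Y : Subgroup G} {g : G} (hX : ∀ x ∈ X, x ^ 2 = 1 ∨ x ^ 3 = 1 ∨ x ^ 5 = 1)
    (hY : ∀ x ∈ Y, x ^ 2 = 1 ∨ x ^ 3 = 1 ∨ x ^ 5 = 1) (hXY : ∀ x, x ∈ X → x ∈ Y → x = 1)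
    (hgX : ∃ a, (a = 4 ∨ a = 5 ∨ a = 6) ∧ g ^ a ∈ X) (hgY : ∃ a, (a = 4 ∨ a = 5 ∨ a = 6) ∧ g ^ a ∈ Y) :
    orderOf g ≤ 25 := by
  have key : ∀ Z : Subgroup G, (∀ x ∈ Z, x ^ 2 = 1 ∨ x ^ 3 = 1 ∨ x ^ 5 = 1) → ∀ a, 0 < a → a ≤ 5 → g ^ a ∈ Z →
      orderOf g ≤ 25 := by
    intro Z hZ a ha0 ha hg
    have h1 : ∃ c, 0 < c ∧ c ≤ 5 ∧ (g ^ a) ^ c = 1 := by
      rcases hZ _ hg with h | h | h
      · exact ⟨2, by norm_num, by norm_num, h⟩
      · exact ⟨3, by norm_num, by norm_num, h⟩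
      · exact ⟨5, by norm_num, by norm_num, h⟩
    obtain ⟨c, hc0, hc, h⟩ := h1
    rw [← pow_mul] at h
    exact (orderOf_le_of_pow_eq_one (Nat.mul_pos ha0 hc0) h).trans (Nat.mul_le_mul ha hc)
  obtain ⟨a, ha, hgX⟩ := hgX
  obtain ⟨b, hb, hgY⟩ := hgY
  by_cases ha6 : a = 6
  · by_cases hb6 : b = 6
    · subst ha6 hb6
      exact (orderOf_le_of_pow_eq_one (by norm_num) (hXY _ hgX hgY)).trans (by norm_num)
    · exact key Y hY b (by omega) (by omega) hgY
  · exact key X hX a (by omega) (by omega) hgX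

variable {Ω : Type v} [MulAction G Ω] [Finite G] [Finite Ω] [FaithfulSMul G Ω] [IsPreprimitive G Ω]

theorem fix_pow {x : G} {ω : Ω} (h : x • ω = ω) (j : ℕ) : x ^ j • ω = ω := by
  induction j with
  | zero => simp
  | succ j ih => rw [pow_succ, mul_smul, h, ih]

/-- orders of elements commuting with a transitive group -/
theorem pow_of_comm {A : Subgroup G} [IsPretransitive A Ω] [Nonempty Ω]
    (hA : ∀ x ∈ A, x ^ 2 = 1 ∨ x ^ 3 = 1 ∨ x ^ 5 = 1) {y : G} (hy : y ∈ centralizer (A : Set G)) :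
    y ^ 2 = 1 ∨ y ^ 3 = 1 ∨ y ^ 5 = 1 := by
  obtain ⟨ω⟩ := (inferInstance : Nonempty Ω)
  obtain ⟨⟨t, ht⟩, htω⟩ := exists_smul_eq A ω (y • ω)
  have htω' : t • ω = y • ω := htω
  have hcomm : Commute t y := (mem_centralizer_iff.1 hy) t ht
  have h1 : ∀ j : ℕ, t ^ j = 1 → y ^ j = 1 := by
    intro j hj
    apply eq_one_of_comm (H := A) (Ω := Ω) (ω := ω)
    · intro h hh
      exact ((mem_centralizer_iff.1 (Subgroup.pow_mem _ hy j)) h hh).symm
    · have h2 : (t⁻¹ * y) • ω = ω := by rw [mul_smul, ← htω', inv_smul_smul]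
      have h3 := fix_pow h2 j
      rw [hcomm.inv_left.mul_pow, inv_pow, hj, inv_one, one_mul] at h3
      exact h3
  exact (hA t ht).imp (h1 2) (fun h => h.imp (h1 3) (h1 5))

theorem pow_lt (k : ℕ) (hk : 2 ≤ k) : 2 * 36 ^ k < 60 ^ k := by
  induction k, hk using Nat.le_induction with
  | base => norm_num
  | succ k _ ih => rw [pow_succ, pow_succ]; omega

variable {N : Subgroup G} {m : ℕ} {T : Fin m → Subgroup G} {e : N ≃* (∀ i, T i)}

/-- regular case -/
theorem five_reg [N.Normal] (C : Coo N T e) (h5 : ∀ i, Nonempty (T i ≃* alternatingGroup (Fin 5))) (hm : m = 1)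
    (hD : centralizer (N : Set G) ≠ ⊥) (ω : Ω) (g : G) : orderOf g ≤ 25 := by
  subst hm
  have hne : Nonempty Ω := ⟨ω⟩
  have htr := trans_of_normal (Ω := Ω) (centralizer (N : Set G)) hD
  have htN := trans_of_normal (Ω := Ω) N (ne_bot C)
  obtain ⟨f⟩ := h5 0
  have hNT : N = T 0 := by
    symm
    apply eq_of_le_of_card_ge (C.le 0)
    rw [card_N C 0, pow_one]
  have hnorm : ∀ x : G, x ∈ normalizer (T 0 : Set G) := by
    intro x
    rw [← hNT, normalizer_eq_top N]
    exact mem_top x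
  have hN : ∀ x ∈ N, x ^ 2 = 1 ∨ x ^ 3 = 1 ∨ x ^ 5 = 1 := by
    intro x hx
    rw [hNT] at hx
    have h := elt_pow f ⟨x, hx⟩
    exact h.imp (congrArg Subtype.val) (fun h => h.imp (congrArg Subtype.val) (congrArg Subtype.val))
  have hcT : ∀ x : G, ∃ a, (a = 4 ∨ a = 5 ∨ a = 6) ∧ x ^ a ∈ centralizer (N : Set G) := by
    intro x
    obtain ⟨a, ha, h⟩ := exists_cent_five f (hnorm x)
    rw [← hNT] at h
    exact ⟨a, ha, h⟩
  have hDD : ∀ x ∈ centralizer (N : Set G), x ^ 2 = 1 ∨ x ^ 3 = 1 ∨ x ^ 5 = 1 := fun x hx =>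
    pow_of_comm (Ω := Ω) hN hx
  have hCD : ∀ x ∈ centralizer ((centralizer (N : Set G) : Subgroup G) : Set G), x ^ 2 = 1 ∨ x ^ 3 = 1 ∨ x ^ 5 = 1 :=
    fun x hx => pow_of_comm (Ω := Ω) hDD hx
  refine order_le_25 hDD hCD (fun x h1 h2 => center_cent Ω C h1 fun d hd => ((mem_centralizer_iff.1 h2) d hd).symm)
    (hcT g) ?_
  -- the action on the centralizer
  obtain ⟨⟨n, hn⟩, hnω⟩ := exists_smul_eq N ω (g • ω)
  have hnω' : n • ω = g • ω := hnω
  set k := n⁻¹ * g with hk
  have hkω : k • ω = ω := by rw [hk, mul_smul, ← hnω', inv_smul_smul]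
  obtain ⟨b, hb, hkb⟩ := hcT k
  have hk1 : k ^ b = 1 := eq_one_of_comm (H := N) (Ω := Ω) (fun h hh => ((mem_centralizer_iff.1 hkb) h hh).symm)
    (fix_pow hkω b)
  refine ⟨b, hb, mem_centralizer_iff.2 fun d hd => ?_⟩
  have hDn : (centralizer (N : Set G)).Normal := inferInstance
  have hgk : ∀ (j : ℕ), ∀ d ∈ centralizer (N : Set G), g ^ j * d * (g ^ j)⁻¹ = k ^ j * d * (k ^ j)⁻¹ := by
    intro j
    induction j with
    | zero => intro d _; simp
    | succ j ih =>
      intro d hd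
      have h1 : k ^ j * d * (k ^ j)⁻¹ ∈ centralizer (N : Set G) := hDn.conj_mem d hd _
      have h2 : k * (k ^ j * d * (k ^ j)⁻¹) * k⁻¹ ∈ centralizer (N : Set G) := hDn.conj_mem _ h1 _
      have h3 : g = n * k := by rw [hk]; group
      have h4 := (mem_centralizer_iff.1 h2) n hn
      calc g ^ (j + 1) * d * (g ^ (j + 1))⁻¹ = g * (g ^ j * d * (g ^ j)⁻¹) * g⁻¹ := by rw [pow_succ']; group
        _ = g * (k ^ j * d * (k ^ j)⁻¹) * g⁻¹ := by rw [ih d hd]
        _ = n * (k * (k ^ j * d * (k ^ j)⁻¹) * k⁻¹) * n⁻¹ := by rw [h3]; group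
        _ = k * (k ^ j * d * (k ^ j)⁻¹) * k⁻¹ * n * n⁻¹ := by rw [h4]
        _ = k ^ (j + 1) * d * (k ^ (j + 1))⁻¹ := by rw [pow_succ' k]; group
  have h6 := hgk b d hd
  rw [hk1, one_mul, inv_one, mul_one] at h6
  exact (mul_inv_eq_iff_eq_mul.1 h6).symm

/-- a subgroup of index 2 in a simple group -/
theorem index_ne_two {A : Type*} [Group A] [IsSimpleGroup A] (f : A ≃* alternatingGroup (Fin 5)) (B : Subgroup A) :
    B.index ≠ 2 := by
  intro h
  have h1 := normal_of_index_eq_two h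
  rcases IsSimpleGroup.eq_bot_or_eq_top_of_normal B h1 with h2 | h2
  · rw [h2, index_bot, Nat.card_congr f.toEquiv, card_alt] at h
    norm_num at h
  · rw [h2, index_top] at h
    norm_num at h

/-- diagonal case: a factor is free -/
theorem five_free [N.Normal] (C : Coo N T e) (h5 : ∀ i, Nonempty (T i ≃* alternatingGroup (Fin 5))) (hm : m = 2)
    (ω : Ω) (hc : Nat.card ↥(stabilizer G ω ⊓ N) = 60) (i : Fin m) {x : G} (hx : x ∈ T i) (hxω : x • ω = ω) :
    x = 1 := by
  classical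
  have htN := trans_of_normal (Ω := Ω) N (ne_bot C)
  set K := stabilizer G ω with hK
  -- the other factor
  obtain ⟨j, hji, hij⟩ : ∃ j : Fin m, j ≠ i ∧ ∀ k : Fin m, k = i ∨ k = j := by
    subst hm
    fin_cases i
    · exact ⟨1, by decide, by decide⟩
    · exact ⟨0, by decide, by decide⟩
  have hs := C.simple
  -- projections
  have hproj : ∀ a b : Fin m, a ≠ b → (∀ k : Fin m, k = a ∨ k = b) →
      ∃ B : Subgroup (T b), Nat.card ↥(K ⊓ T a) * Nat.card B = 60 ∧ Nat.card ↥(K ⊓ T b) ∣ Nat.card B := by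
    intro a b hab hall
    let ρ : ↥(K ⊓ N) →* T b := (Pi.evalMonoidHom (fun i => ↥(T i)) b).comp (e.toMonoidHom.comp (inclusion inf_le_right))
    have hρ : ∀ y : ↥(K ⊓ N), ρ y = e ⟨y.1, y.2.2⟩ b := fun y => rfl
    have hker : ∀ y : ↥(K ⊓ N), ρ y = 1 ↔ (y : G) ∈ T a := by
      intro y
      rw [hρ]
      constructor
      · intro h
        have h1 : (⟨y.1, y.2.2⟩ : N) = e.symm (Pi.mulSingle a (e ⟨y.1, y.2.2⟩ a)) := by
          apply e.injective
          rw [MulEquiv.apply_symm_apply]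
          funext k
          rcases hall k with rfl | rfl
          · rw [Pi.mulSingle_eq_same]
          · rw [Pi.mulSingle_eq_of_ne hab.symm, h]
        have h2 := C.single a (e ⟨y.1, y.2.2⟩ a)
        rw [← h1] at h2
        change (y : G) = _ at h2
        rw [h2]
        exact (e ⟨y.1, y.2.2⟩ a).2
      · intro h
        have h2 := C.single a ⟨y.1, h⟩
        have h1 : e.symm (Pi.mulSingle a (⟨y.1, h⟩ : T a)) = (⟨y.1, y.2.2⟩ : N) := Subtype.ext h2
        rw [← h1, MulEquiv.apply_symm_apply, Pi.mulSingle_eq_of_ne hab.symm]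
    refine ⟨ρ.range, ?_, ?_⟩
    · have h1 := Subgroup.card_eq_card_quotient_mul_card_subgroup ρ.ker
      rw [hc, Nat.card_congr (QuotientGroup.quotientKerEquivRange ρ).toEquiv] at h1
      rw [h1, mul_comm]
      congr 1
      exact Nat.card_congr ⟨fun y => ⟨⟨y.1, y.2.1, C.le a y.2.2⟩, (hker _).2 y.2.2⟩,
        fun y => ⟨y.1.1, y.1.2.1, (hker y.1).1 y.2⟩, fun _ => rfl, fun _ => rfl⟩
    · have h1 : (K ⊓ T b).subgroupOf (T b) ≤ ρ.range := by
        intro y hy
        have hy1 : (y : G) ∈ K := (mem_subgroupOf.1 hy).1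
        refine ⟨⟨y.1, hy1, C.le b y.2⟩, ?_⟩
        rw [hρ]
        have h2 := C.single b y
        have h3 : e.symm (Pi.mulSingle b y) = (⟨y.1, C.le b y.2⟩ : N) := Subtype.ext h2
        rw [← h3, MulEquiv.apply_symm_apply, Pi.mulSingle_eq_same]
      have h2 := card_dvd_of_le h1
      rwa [Nat.card_congr (subgroupOfEquivOfLe (inf_le_right : K ⊓ T b ≤ T b)).toEquiv] at h2
  -- the two intersections have the same order
  have hsame : Nat.card ↥(K ⊓ T i) = Nat.card ↥(K ⊓ T j) := by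
    obtain ⟨g, hg⟩ := C.trans i j
    obtain ⟨⟨n, hn⟩, hnω⟩ := exists_smul_eq N ω (g • ω)
    have hnω' : n • ω = g • ω := hnω
    set k := n⁻¹ * g with hk
    have hkK : k ∈ K := by
      rw [hK, mem_stabilizer_iff, hk, mul_smul, ← hnω', inv_smul_smul]
    have hkT : T j = (T i).map (MulAut.conj k).toMonoidHom := by
      have h1 : MulAut.conj k = MulAut.conj n⁻¹ * MulAut.conj g := by rw [hk, map_mul]
      have h2 : (T i).map (MulAut.conj k).toMonoidHom = (T j).map (MulAut.conj n⁻¹).toMonoidHom := by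
        rw [hg, Subgroup.map_map, h1]
        rfl
      rw [h2]
      have h3 := C.norm j (N.inv_mem hn)
      ext y
      constructor
      · intro hy
        refine ⟨n * y * n⁻¹, ?_, ?_⟩
        · exact ((mem_normalizer_iff.1 (C.norm j hn)) y).1 hy
        · change n⁻¹ * (n * y * n⁻¹) * n⁻¹⁻¹ = y
          group
      · rintro ⟨y, hy, rfl⟩
        exact ((mem_normalizer_iff.1 h3) y).1 hy
    have h4 : K ⊓ T j = (K ⊓ T i).map (MulAut.conj k).toMonoidHom := by
      rw [hkT]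
      ext y
      constructor
      · rintro ⟨hy, y', hy', rfl⟩
        refine ⟨y', ⟨?_, hy'⟩, rfl⟩
        have h5 : k⁻¹ * (k * y' * k⁻¹) * k ∈ K := K.mul_mem (K.mul_mem (K.inv_mem hkK) hy) hkK
        have h6 : k⁻¹ * (k * y' * k⁻¹) * k = y' := by group
        rwa [h6] at h5
      · rintro ⟨y', ⟨hy1, hy2⟩, rfl⟩
        exact ⟨K.mul_mem (K.mul_mem hkK hy1) (K.inv_mem hkK), y', hy2, rfl⟩
    rw [h4]
    exact (card_map_of_injective (MulAut.conj k).injective).symm
  obtain ⟨B, hB1, hB2⟩ := hproj i j hji.symm hij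
  rw [← hsame] at hB2
  obtain ⟨f⟩ := h5 j
  have hBi := B.card_mul_index
  rw [Nat.card_congr f.toEquiv, card_alt] at hBi
  set s := Nat.card ↥(K ⊓ T i) with hsdef
  obtain ⟨q, hq⟩ := hB2
  have hs1 : s = 1 := by
    rw [hq] at hB1 hBi
    have h7 : s * (s * q) = 60 := hB1
    have hs0 : 0 < s := Nat.pos_of_ne_zero (by rintro h; rw [h] at h7; norm_num at h7)
    have hs8 : s < 8 := by
      by_contra hcon
      push Not at hcon
      have hq0 : 0 < q := Nat.pos_of_ne_zero (by rintro rfl; norm_num at h7)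
      nlinarith
    have h8 : s = 1 ∨ s = 2 := by
      interval_cases s <;> omega
    rcases h8 with h8 | h8
    · exact h8
    · exfalso
      rw [h8] at h7 hBi
      have := C.simple j
      have h9 : B.index = 2 := by
        have h10 : q = 15 := by omega
        rw [h10] at hBi
        omega
      exact index_ne_two f B h9
  have h9 : (⟨x, mem_stabilizer_iff.2 hxω, hx⟩ : ↥(K ⊓ T i)) = 1 := by
    have := (Nat.card_eq_one_iff_unique.1 (hsdef ▸ hs1)).1
    exact Subsingleton.elim _ _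
  exact congrArg Subtype.val h9

/-- diagonal case -/
theorem five_diag [N.Normal] (C : Coo N T e) (h5 : ∀ i, Nonempty (T i ≃* alternatingGroup (Fin 5))) (hm : m = 2)
    (ω : Ω) (hc : Nat.card ↥(stabilizer G ω ⊓ N) = 60) (hn : Nat.card Ω = 60) (g : G) : orderOf g ≤ 25 := by
  classical
  have hne : Nonempty Ω := ⟨ω⟩
  have htN := trans_of_normal (Ω := Ω) N (ne_bot C)
  -- the centralizer of `N` is trivial
  have hD : centralizer (N : Set G) = ⊥ := by
    by_contra hD
    have htr := trans_of_normal (Ω := Ω) (centralizer (N : Set G)) hD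
    have h4 : Nat.card ↥(stabilizer G ω ⊓ N) = 1 := by
      rw [Nat.card_eq_one_iff_unique]
      have hfree : ∀ n ∈ N, n • ω = ω → n = 1 := fun n hn hω =>
        eq_one_of_comm (H := centralizer (N : Set G)) (Ω := Ω) (fun h hh => (mem_centralizer_iff.1 hh) n hn) hω
      refine ⟨⟨fun x y => Subtype.ext ?_⟩, ⟨1⟩⟩
      rw [hfree x.1 x.2.2 x.2.1, hfree y.1 y.2.2 y.2.1]
    omega
  have hcent : ∀ x : G, (∀ i, x ∈ centralizer (T i : Set G)) → x = 1 := by
    intro x hx
    have h1 : x ∈ centralizer (N : Set G) := mem_centralizer_iff.2 fun n hn =>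
      (commute_of_factors C (fun i t ht => ((mem_centralizer_iff.1 (hx i)) t ht).symm) hn).symm
    rwa [hD, mem_bot] at h1
  -- the factors are transitive
  have htT : ∀ i, IsPretransitive (T i) Ω := by
    intro i
    rw [isPretransitive_iff_orbit_eq_univ ω]
    have h1 : Function.Injective (fun t : T i => (⟨t • ω, ⟨t, rfl⟩⟩ : orbit (T i) ω)) := by
      intro s t hst
      have h2 : (s : G) • ω = (t : G) • ω := congrArg Subtype.val hst
      have h3 : ((t : G)⁻¹ * s) = 1 := five_free C h5 hm ω hc i ((T i).mul_mem ((T i).inv_mem t.2) s.2)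
        (by rw [mul_smul, h2, inv_smul_smul])
      exact Subtype.ext (inv_mul_eq_one.1 h3).symm
    have h2 := Nat.card_le_card_of_injective _ h1
    obtain ⟨f⟩ := h5 i
    rw [Nat.card_congr f.toEquiv, card_alt, ← hn] at h2
    apply Set.eq_univ_of_forall
    have := Fintype.ofFinite Ω
    have h3 : (orbit (T i) ω).toFinset = Finset.univ := by
      apply Finset.eq_univ_of_card
      apply le_antisymm (Finset.card_le_univ _)
      rw [Set.toFinset_card, ← Nat.card_eq_fintype_card, ← Nat.card_eq_fintype_card]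
      exact h2
    intro x
    have h4 : x ∈ (orbit (T i) ω).toFinset := h3 ▸ Finset.mem_univ x
    exact Set.mem_toFinset.1 h4
  have hT : ∀ i, ∀ x ∈ T i, x ^ 2 = 1 ∨ x ^ 3 = 1 ∨ x ^ 5 = 1 := by
    intro i x hx
    obtain ⟨f⟩ := h5 i
    have h := elt_pow f ⟨x, hx⟩
    exact h.imp (congrArg Subtype.val) (fun h => h.imp (congrArg Subtype.val) (congrArg Subtype.val))
  have hCT : ∀ i, ∀ x ∈ centralizer (T i : Set G), x ^ 2 = 1 ∨ x ^ 3 = 1 ∨ x ^ 5 = 1 := fun i x hx => by
    have := htT i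
    exact pow_of_comm (Ω := Ω) (hT i) hx
  obtain ⟨i₀, i₁, hne01, hall⟩ : ∃ i₀ i₁ : Fin m, i₀ ≠ i₁ ∧ ∀ k : Fin m, k = i₀ ∨ k = i₁ := by
    subst hm
    exact ⟨0, 1, by decide, by decide⟩
  obtain ⟨j, hj⟩ := C.conj g i₀
  obtain ⟨j', hj'⟩ := C.conj g i₁
  have hjj' : j ≠ j' := by
    rintro rfl
    rw [hj] at hj'
    exact hne01 (C.inj (Subgroup.map_injective (MulAut.conj g).injective hj'))
  by_cases hji : j = i₀
  · -- `g` fixes both factors
    have hj1 : j' = i₁ := (hall j').resolve_left fun h => hjj' (hji.trans h.symm)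
    subst hji hj1
    obtain ⟨f⟩ := h5 j
    obtain ⟨f'⟩ := h5 j'
    refine order_le_25 (hCT j) (hCT j') (fun x h1 h2 => hcent x fun k => ?_)
      (exists_cent_five f (mem_normalizer_of_map hj)) (exists_cent_five f' (mem_normalizer_of_map hj'))
    rcases hall k with rfl | rfl
    · exact h1
    · exact h2
  · -- `g` swaps the factors
    have hj0 : j = i₁ := (hall j).resolve_left hji
    have hj1 : j' = i₀ := (hall j').resolve_right fun h => hjj' (hj0.trans h.symm)
    subst hj0 hj1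
    have h2 : T j' = (T j').map (MulAut.conj (g ^ 2)).toMonoidHom := by
      have h3 : (T j').map (MulAut.conj (g ^ 2)).toMonoidHom =
          ((T j').map (MulAut.conj g).toMonoidHom).map (MulAut.conj g).toMonoidHom := by
        rw [Subgroup.map_map, pow_two, map_mul]
        rfl
      rw [h3, ← hj, ← hj']
    obtain ⟨f⟩ := h5 j'
    obtain ⟨a, ha, h3⟩ := exists_cent_five f (mem_normalizer_of_map h2)
    have h4 : (g ^ 2) ^ a = 1 := by
      apply hcent
      intro k
      rcases hall k with rfl | rfl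
      · exact h3
      · rw [mem_centralizer_iff]
        intro t ht
        rw [hj] at ht
        obtain ⟨s, hs, rfl⟩ := ht
        change g * s * g⁻¹ * (g ^ 2) ^ a = (g ^ 2) ^ a * (g * s * g⁻¹)
        have h5 : Commute s ((g ^ 2) ^ a) := (mem_centralizer_iff.1 h3) s hs
        have h6 : Commute g ((g ^ 2) ^ a) := ((Commute.refl g).pow_right 2).pow_right a
        exact (h6.mul_left h5).mul_left h6.inv_left
    rw [← pow_mul] at h4
    exact (orderOf_le_of_pow_eq_one (by omega) h4).trans (by omega)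

/-- **The types with a big degree, `T = A₅`.** -/
theorem diag_five [N.Normal] (C : Coo N T e) (h5 : ∀ i, Nonempty (T i ≃* alternatingGroup (Fin 5))) (ω : Ω) {l : ℕ}
    (hl : 2 * l ≤ m) (hc : ∀ i, Nat.card ↥(stabilizer G ω ⊓ N) = Nat.card ↥(T i) ^ l) (g : G) (h2 : Two Ω g) :
    False := by
  let i₀ : Fin m := ⟨0, C.hm⟩
  have hM : ∀ i, Mo ↥(T i) 6 := fun i => mo_six (h5 i).some
  have htN := trans_of_normal (Ω := Ω) N (ne_bot C)
  have h3 := card_mul N ω
  have hT60 : Nat.card (T i₀) = 60 := by rw [Nat.card_congr (h5 i₀).some.toEquiv, card_alt]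
  rw [hc i₀, card_N C i₀, hT60] at h3
  have hml := C.hm
  obtain ⟨k, hk⟩ := Nat.exists_eq_add_of_le (show l ≤ m by omega)
  have hnk : Nat.card Ω = 60 ^ k := by
    rw [hk, pow_add, mul_comm (60 ^ l)] at h3
    exact Nat.eq_of_mul_eq_mul_right (pow_pos (by norm_num) l) h3
  have hle := card_le_of_two h2
  by_cases hD : centralizer (N : Set G) = ⊥
  · obtain ⟨L, hL0, hL, hLc⟩ := exists_pow C (by norm_num) hM g
    have hgD : g ^ L ∈ centralizer (N : Set G) := mem_centralizer_iff.2 fun n hn => (hLc n hn).symm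
    rw [hD, mem_bot] at hgD
    have h4 := (orderOf_le_of_pow_eq_one hL0 hgD).trans hL
    by_cases hk1 : 2 ≤ k
    · have h5 := pow_lt k hk1
      have h6 : 6 ^ m ≤ 36 ^ k := by
        calc 6 ^ m ≤ 6 ^ (2 * k) := Nat.pow_le_pow_right (by norm_num) (by omega)
          _ = 36 ^ k := by rw [pow_mul]; norm_num
      omega
    · have hk1' : k = 1 := by omega
      subst hk1'
      rw [pow_one] at hnk
      by_cases hl0 : l = 0
      · have hm1 : m = 1 := by omega
        have h5 : orderOf g ≤ 6 := by simpa [hm1] using h4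
        omega
      · have hl1 : l = 1 := by omega
        have h5' := five_diag C h5 (by omega) ω (by rw [hc i₀, hT60, hl1, pow_one]) hnk g
        omega
  · -- regular
    have htr := trans_of_normal (Ω := Ω) (centralizer (N : Set G)) hD
    have hfree : ∀ n ∈ N, n • ω = ω → n = 1 := fun n hn hω =>
      eq_one_of_comm (H := centralizer (N : Set G)) (Ω := Ω) (fun h hh => (mem_centralizer_iff.1 hh) n hn) hω
    have h4 : Nat.card ↥(stabilizer G ω ⊓ N) = 1 := by
      rw [Nat.card_eq_one_iff_unique]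
      refine ⟨⟨fun x y => Subtype.ext ?_⟩, ⟨1⟩⟩
      rw [hfree x.1 x.2.2 x.2.1, hfree y.1 y.2.2 y.2.1]
    have hl0 : l = 0 := by
      rw [hc i₀, hT60] at h4
      by_contra hcon
      have h5 : 1 < 60 ^ l := Nat.one_lt_pow hcon (by norm_num)
      omega
    have hkm : k = m := by omega
    rw [hkm] at hnk
    by_cases hm1 : m = 1
    · have h5' := five_reg C h5 hm1 hD ω g
      rw [hm1, pow_one] at hnk
      omega
    · have h6 : orderOf g ≤ 36 ^ m := by
        have h7 : orderOf g ≤ 6 ^ m * 6 ^ m := by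
          rcases order_le C hM g ω with h | ⟨-, h⟩
          · exact h.trans (Nat.le_mul_of_pos_right _ (pow_pos (by norm_num) _))
          · exact h
        rwa [← mul_pow, show 6 * 6 = 36 by norm_num] at h7
      have h8 := pow_lt m (by omega)
      omega

/-- **The types with a big degree** (diagonal, compound diagonal, twisted wreath, HS, HC). -/
theorem diag [N.Normal] (C : Coo N T e)
    (hO : (∀ i, H384.Cyc.Ord ↥(T i)) ∨ ∀ i, Nonempty (T i ≃* alternatingGroup (Fin 5))) (ω : Ω) {l : ℕ}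
    (hl : 2 * l ≤ m) (hc : ∀ i, Nat.card ↥(stabilizer G ω ⊓ N) = Nat.card ↥(T i) ^ l) (g : G) (h2 : Two Ω g) :
    False := by
  rcases hO with h | h
  · exact diag_ord C h ω hl hc g h2
  · exact diag_five C h ω hl hc g h2

end Cfsg.Agent.H549.TwoCyc.Diag
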