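import Cfsg.Agent.H549.TwoCyc.DiagBase

/-!
# TEAM TWOCYC (S3507): types with a big degree: orders (helper549)
-/

set_option autoImplicit false
set_option linter.unusedSectionVars false

namespace Cfsg.Agent.H549.TwoCyc.Diag

open MulAction Subgroup H384.Cyc H124.OSCoord

universe u v

variable {G : Type u} [Group G] {Ω : Type v} [MulAction G Ω]

/-- two cycles: `|Ω| ≤ 2 o(g)` -/
theorem card_le_of_two [Finite G] [Finite Ω] {g : G} (h2 : Two Ω g) : Nat.card Ω ≤ 2 * orderOf g := by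
  classical
  have := Fintype.ofFinite (orbitRel.Quotient (zpowers g) Ω)
  have h1 := Nat.card_congr (selfEquivSigmaOrbits (zpowers g) Ω)
  rw [Nat.card_sigma] at h1
  rw [h1]
  calc ∑ r : orbitRel.Quotient (zpowers g) Ω, Nat.card (orbit (zpowers g) (r.out : Ω))
      ≤ ∑ _r : orbitRel.Quotient (zpowers g) Ω, orderOf g := by
        refine Finset.sum_le_sum fun r _ => ?_
        rw [← Nat.card_zpowers]
        exact Nat.card_le_card_of_surjective (fun t : zpowers g => (⟨t • r.out, ⟨t, rfl⟩⟩ : orbit (zpowers g) r.out))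
          (by
            rintro ⟨_, ⟨t, rfl⟩⟩
            exact ⟨t, rfl⟩)
    _ = 2 * orderOf g := by
        rw [Finset.sum_const, Finset.card_univ, smul_eq_mul, ← Nat.card_eq_fintype_card]
        congr 1

/-- the degree -/
theorem card_mul [Finite G] (N : Subgroup G) [IsPretransitive N Ω] (ω : Ω) :
    Nat.card Ω * Nat.card ↥(stabilizer G ω ⊓ N) = Nat.card N := by
  have h1 := Nat.card_congr (orbitProdStabilizerEquivGroup N ω)
  rw [Nat.card_prod, orbit_eq_univ, Nat.card_congr (Equiv.Set.univ Ω)] at h1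
  rw [← h1]
  congr 1
  refine Nat.card_congr ⟨fun x => ⟨⟨x.1, x.2.2⟩, x.2.1⟩, fun x => ⟨x.1.1, ⟨x.2, x.1.2⟩⟩, fun _ => rfl, fun _ => rfl⟩

variable {N : Subgroup G} {m : ℕ} {T : Fin m → Subgroup G} {e : N ≃* (∀ i, T i)}

theorem card_T_eq (C : Coo N T e) (i j : Fin m) : Nat.card (T i) = Nat.card (T j) := by
  obtain ⟨g, hg⟩ := C.trans i j
  rw [hg]
  exact (card_map_of_injective (MulAut.conj g).injective).symm

theorem card_N (C : Coo N T e) (i : Fin m) : Nat.card N = Nat.card (T i) ^ m := by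
  rw [Nat.card_congr e.toEquiv, Nat.card_pi, Finset.prod_congr rfl (fun j _ => card_T_eq C j i), Finset.prod_const,
    Finset.card_univ, Fintype.card_fin]

theorem equiv_T (C : Coo N T e) (i j : Fin m) : Nonempty (T i ≃* T j) := by
  obtain ⟨g, hg⟩ := C.trans i j
  rw [hg]
  exact ⟨(T i).equivMapOfInjective _ (MulAut.conj g).injective⟩

theorem mo_two (C : Coo N T e) (i : Fin m) [Finite G] {M : ℕ} (hM : Mo ↥(T i) M) : 2 ≤ M := by
  obtain ⟨a, b, hab⟩ := C.na i
  have h1 := hM (MulAut.conj a)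
  by_contra hcon
  have h2 : orderOf (MulAut.conj a) = 1 := by
    have := orderOf_pos (MulAut.conj a)
    omega
  rw [orderOf_eq_one_iff] at h2
  apply hab
  have h3 : MulAut.conj a b = b := by rw [h2]; rfl
  rw [MulAut.conj_apply] at h3
  exact mul_inv_eq_iff_eq_mul.1 h3

/-- `N` is not abelian -/
theorem not_comm (C : Coo N T e) : ∃ a ∈ N, ∃ b ∈ N, a * b ≠ b * a := by
  obtain ⟨a, b, hab⟩ := C.na ⟨0, C.hm⟩
  exact ⟨a, C.le _ a.2, b, C.le _ b.2, fun h => hab (Subtype.ext h)⟩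

variable [Finite G] [Finite Ω] [FaithfulSMul G Ω] [IsPreprimitive G Ω]

theorem ne_bot (C : Coo N T e) : N ≠ ⊥ := by
  obtain ⟨a, ha, b, hb, hab⟩ := not_comm C
  rintro rfl
  apply hab
  rw [mem_bot.1 ha, mem_bot.1 hb]

/-- elements commuting with a transitive group -/
theorem eq_one_of_comm {H : Subgroup G} [IsPretransitive H Ω] {x : G} (hx : ∀ h ∈ H, x * h = h * x) {ω : Ω}
    (hω : x • ω = ω) : x = 1 := by
  apply FaithfulSMul.eq_of_smul_eq_smul (α := Ω) (M := G)
  intro y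
  obtain ⟨⟨h, hh⟩, rfl⟩ := exists_smul_eq H ω y
  change x • h • ω = (1 : G) • h • ω
  rw [one_smul, ← mul_smul, hx h hh, mul_smul, hω]

variable (Ω) in
include Ω in
/-- the centralizer of the centralizer -/
theorem center_cent [N.Normal] (C : Coo N T e) {y : G} (hy : y ∈ centralizer (N : Set G))
    (hyc : ∀ d ∈ centralizer (N : Set G), y * d = d * y) : y = 1 := by
  by_contra hy1
  let D : Subgroup G := centralizer (N : Set G)
  have hDn : D.Normal := by
    change (centralizer (N : Set G)).Normal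
    infer_instance
  let Z : Subgroup G := D ⊓ centralizer (D : Set G)
  have hZn : Z.Normal := inferInstance
  have hZ0 : Z ≠ ⊥ := by
    intro h
    have h1 : y ∈ Z := ⟨hy, mem_centralizer_iff.2 fun d hd => (hyc d hd).symm⟩
    rw [h, mem_bot] at h1
    exact hy1 h1
  have := trans_of_normal (Ω := Ω) Z hZ0
  -- `N ≤ Z`
  have hne : Nonempty Ω := by
    by_contra hcon
    rw [not_nonempty_iff] at hcon
    exact hy1 (FaithfulSMul.eq_of_smul_eq_smul (α := Ω) (M := G) fun x => (hcon.false x).elim)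
  obtain ⟨ω⟩ := hne
  have hNZ : ∀ n ∈ N, n ∈ Z := by
    intro n hn
    obtain ⟨⟨z, hz⟩, hzω⟩ := exists_smul_eq Z ω (n • ω)
    have hzω' : z • ω = n • ω := hzω
    have h1 : z⁻¹ * n = 1 := by
      apply eq_one_of_comm (H := Z) (ω := ω) (Ω := Ω)
      · intro h hh
        have h2 : n * h = h * n := (mem_centralizer_iff.1 hh.1) n hn
        have h3 : z⁻¹ * h = h * z⁻¹ := ((mem_centralizer_iff.1 hh.2) z⁻¹ (D.inv_mem hz.1))
        calc z⁻¹ * n * h = z⁻¹ * (n * h) := by group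
          _ = z⁻¹ * (h * n) := by rw [h2]
          _ = z⁻¹ * h * n := by group
          _ = h * z⁻¹ * n := by rw [h3]
          _ = h * (z⁻¹ * n) := by group
      · rw [mul_smul, ← hzω', inv_smul_smul]
    have h2 : n = z := (inv_mul_eq_one.1 h1).symm
    rw [h2]
    exact hz
  obtain ⟨a, ha, b, hb, hab⟩ := not_comm C
  exact hab ((mem_centralizer_iff.1 (hNZ b hb).1) a ha)

/-- **Orders of elements.** -/
theorem order_le [N.Normal] (C : Coo N T e) {M : ℕ} (hM : ∀ i, Mo ↥(T i) M) (g : G) (ω : Ω) :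
    orderOf g ≤ M ^ m ∨ ((∀ n ∈ N, n • ω = ω → n = 1) ∧ orderOf g ≤ M ^ m * M ^ m) := by
  have hM2 := mo_two C ⟨0, C.hm⟩ (hM _)
  obtain ⟨L, hL0, hL, hLc⟩ := exists_pow C hM2 hM g
  have hgD : g ^ L ∈ centralizer (N : Set G) := mem_centralizer_iff.2 fun n hn => (hLc n hn).symm
  by_cases hD : centralizer (N : Set G) = ⊥
  · left
    rw [hD, mem_bot] at hgD
    exact (orderOf_le_of_pow_eq_one hL0 hgD).trans hL
  · right
    have htr := trans_of_normal (Ω := Ω) (centralizer (N : Set G)) hD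
    have htN := trans_of_normal (Ω := Ω) N (ne_bot C)
    refine ⟨fun n hn hω => eq_one_of_comm (H := centralizer (N : Set G)) (Ω := Ω)
      (fun h hh => (mem_centralizer_iff.1 hh) n hn) hω, ?_⟩
    obtain ⟨⟨n, hn⟩, hnω⟩ := exists_smul_eq N ω (g • ω)
    have hnω' : n • ω = g • ω := hnω
    set k := n⁻¹ * g with hk
    have hkω : k • ω = ω := by rw [hk, mul_smul, ← hnω', inv_smul_smul]
    obtain ⟨L', hL'0, hL', hLc'⟩ := exists_pow C hM2 hM k
    have hk1 : k ^ L' = 1 := by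
      apply eq_one_of_comm (H := N) (Ω := Ω) (fun h hh => hLc' h hh) (ω := ω)
      have h1 : ∀ j : ℕ, k ^ j • ω = ω := by
        intro j
        induction j with
        | zero => simp
        | succ j ih => rw [pow_succ, mul_smul, hkω, ih]
      exact h1 L'
    -- `g` and `k` act in the same way on the centralizer
    have hDn : (centralizer (N : Set G)).Normal := inferInstance
    have hgk : ∀ (j : ℕ), ∀ d ∈ centralizer (N : Set G), g ^ j * d * (g ^ j)⁻¹ = k ^ j * d * (k ^ j)⁻¹ := by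
      intro j
      induction j with
      | zero => intro d _; simp
      | succ j ih =>
        intro d hd
        have h1 : k ^ j * d * (k ^ j)⁻¹ ∈ centralizer (N : Set G) := hDn.conj_mem d hd _
        have h2 : k * (k ^ j * d * (k ^ j)⁻¹) * k⁻¹ ∈ centralizer (N : Set G) := hDn.conj_mem _ h1 _
        have h3 : g = n * k := by rw [hk]; group
        have h4 := (mem_centralizer_iff.1 h2) n hn
        calc g ^ (j + 1) * d * (g ^ (j + 1))⁻¹ = g * (g ^ j * d * (g ^ j)⁻¹) * g⁻¹ := by rw [pow_succ']; group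
          _ = g * (k ^ j * d * (k ^ j)⁻¹) * g⁻¹ := by rw [ih d hd]
          _ = n * (k * (k ^ j * d * (k ^ j)⁻¹) * k⁻¹) * n⁻¹ := by rw [h3]; group
          _ = k * (k ^ j * d * (k ^ j)⁻¹) * k⁻¹ * n * n⁻¹ := by rw [h4]
          _ = k ^ (j + 1) * d * (k ^ (j + 1))⁻¹ := by rw [pow_succ' k]; group
    have h5 : g ^ (L * L') = 1 := by
      apply center_cent Ω C
      · rw [pow_mul]
        exact Subgroup.pow_mem _ hgD _
      · intro d hd
        have h6 := hgk (L * L') d hd
        have h7 : k ^ (L * L') = 1 := by rw [mul_comm, pow_mul, hk1, one_pow]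
        rw [h7, one_mul, inv_one, mul_one] at h6
        exact mul_inv_eq_iff_eq_mul.1 h6
    exact (orderOf_le_of_pow_eq_one (Nat.mul_pos hL0 hL'0) h5).trans (Nat.mul_le_mul hL hL')

/-- **The types with a big degree.** -/
theorem diag_ord [N.Normal] (C : Coo N T e) (hO : ∀ i, H384.Cyc.Ord ↥(T i)) (ω : Ω) {l : ℕ} (hl : 2 * l ≤ m)
    (hc : ∀ i, Nat.card ↥(stabilizer G ω ⊓ N) = Nat.card ↥(T i) ^ l) (g : G) (h2 : Two Ω g) : False := by
  let i₀ : Fin m := ⟨0, C.hm⟩
  obtain ⟨M, hM0, hMT⟩ := hO i₀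
  have hM : ∀ i, Mo ↥(T i) M := fun i => hM0.congr (equiv_T C i₀ i).some
  have hM2 := mo_two C i₀ hM0
  have htN := trans_of_normal (Ω := Ω) N (ne_bot C)
  have h3 := card_mul N ω
  rw [hc i₀, card_N C i₀] at h3
  set a := Nat.card (T i₀) with ha
  set n := Nat.card Ω with hn
  have ha0 : 0 < a := by omega
  have hml := C.hm
  obtain ⟨k, rfl⟩ := Nat.exists_eq_add_of_le (show l ≤ m by omega)
  have hnk : n = a ^ k := by
    rw [pow_add, mul_comm (a ^ l)] at h3
    exact Nat.eq_of_mul_eq_mul_right (pow_pos ha0 l) h3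
  have hle := card_le_of_two h2
  rw [← hn] at hle
  -- `(2 M^2)^j ≤ a^j`
  have hpow : ∀ j, 1 ≤ j → (2 * M ^ 2) ^ j < a ^ j := fun j hj => Nat.pow_lt_pow_left hMT (by omega)
  rcases order_le C hM g ω with h | ⟨hfree, h⟩
  · -- `n ≤ 2 M^m`
    have h4 : n ≤ 2 * M ^ (l + k) := hle.trans (Nat.mul_le_mul_left 2 h)
    by_cases hm1 : l + k = 1
    · have hk : k = 1 := by omega
      rw [hm1, pow_one] at h4
      rw [hk, pow_one] at hnk
      nlinarith
    · have h5 := hpow (l + k) (by omega)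
      have h6 : a ^ (l + k) ≤ n * n := by
        rw [hnk, ← pow_add]
        exact Nat.pow_le_pow_right ha0 (by omega)
      have h7 : n * n ≤ (2 * M ^ (l + k)) * (2 * M ^ (l + k)) := Nat.mul_le_mul h4 h4
      have h8 : (2 * M ^ (l + k)) * (2 * M ^ (l + k)) ≤ (2 * M ^ 2) ^ (l + k) := by
        rw [mul_pow]
        have h9 : 2 ^ 2 ≤ 2 ^ (l + k) := Nat.pow_le_pow_right (by norm_num) (by omega)
        calc (2 * M ^ (l + k)) * (2 * M ^ (l + k)) = 2 ^ 2 * (M ^ 2) ^ (l + k) := by ring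
          _ ≤ 2 ^ (l + k) * (M ^ 2) ^ (l + k) := Nat.mul_le_mul_right _ h9
      omega
  · -- `N` is regular
    have h4 : Nat.card ↥(stabilizer G ω ⊓ N) = 1 := by
      rw [Nat.card_eq_one_iff_unique]
      refine ⟨⟨fun x y => Subtype.ext ?_⟩, ⟨1⟩⟩
      rw [hfree x.1 x.2.2 x.2.1, hfree y.1 y.2.2 y.2.1]
    have hl0 : l = 0 := by
      rw [hc i₀, ← ha] at h4
      by_contra hcon
      have h5 : 1 < a ^ l := Nat.one_lt_pow hcon (by nlinarith)
      omega
    subst hl0
    rw [zero_add] at h hml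
    have h5 : n ≤ 2 * (M ^ k * M ^ k) := hle.trans (Nat.mul_le_mul_left 2 h)
    have h6 := hpow k (by omega)
    have h7 : 2 * (M ^ k * M ^ k) ≤ (2 * M ^ 2) ^ k := by
      rw [mul_pow]
      have h9 : 2 ^ 1 ≤ 2 ^ k := Nat.pow_le_pow_right (by norm_num) (by omega)
      calc 2 * (M ^ k * M ^ k) = 2 ^ 1 * (M ^ 2) ^ k := by ring
        _ ≤ 2 ^ k * (M ^ 2) ^ k := Nat.mul_le_mul_right _ h9
    omega

end Cfsg.Agent.H549.TwoCyc.Diag
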