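import Cfsg.Agent.H549.TwoCyc.MonLeaf

/-!
# The Monster in S3507: the arithmetic, soundness (helper549)
-/

set_option autoImplicit false
set_option maxRecDepth 100000

namespace Cfsg.Agent.H549.TwoCyc.MonNum

/-- the non-adjacency relation -/
def adjL : List (ℕ × ℕ) :=
  [(71, b71), (59, b59), (47, b47), (41, b41), (29, b29), (31, b31), (23, b23), (19, b19), (17, b17), (11, b11), (7, b7),
    (5, b5), (3, b3)]

/-- The facts in the odd case: `c = d (k l)`, `n = d (k + l)`. -/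
structure FO (d k l : ℕ) : Prop where
  cop : Nat.Coprime k l
  c_dvd : d * (k * l) ∣ nM
  n_dvd : d * (k + l) ∣ nM
  c_le : d * (k * l) ≤ cM
  adj : ∀ x ∈ adjL, x.1 ∣ d * (k * l) → Nat.Coprime x.2 (d * (k * l))
  f59 : 59 ∣ d * (k + l)
  f71 : 71 ∣ d * (k + l) ∨ 3 ^ 18 ∣ d * (k + l) ∧ 11 ^ 2 ∣ d * (k + l)
  f41 : 41 ∣ d * (k + l) ∨ 7 ^ 5 ∣ d * (k + l) ∧ 47 ∣ d * (k + l)
  f47 : 47 ∣ d * (k + l) ∨ 3 ^ 7 ∣ d * (k + l) ∧ 5 ^ 3 ∣ d * (k + l) ∧ 7 ^ 4 ∣ d * (k + l) ∧ 11 ∣ d * (k + l) ∧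
    29 ∣ d * (k + l) ∧ 41 ∣ d * (k + l) ∧ 71 ∣ d * (k + l)
  f7 : 7 ^ 5 ∣ d * (k * l) → Nat.Coprime (d * (k * l)) bigs
  odd : ¬ 2 ∣ d * (k * l)

theorem FO.symm {d k l : ℕ} (h : FO d k l) : FO d l k := by
  obtain ⟨h1, h2, h3, h4, h5, h6, h7, h8, h9, h10, h11⟩ := h
  rw [mul_comm k l] at h2 h4 h5 h10 h11
  rw [add_comm k l] at h3 h6 h7 h8 h9
  exact ⟨h1.symm, h2, h3, h4, h5, h6, h7, h8, h9, h10, h11⟩

/-- the part of `d` -/
theorem exists_part {d : ℕ} : ∃ D ∈ dL, D ∣ d ∧ (59 ∣ d ↔ D % 59 = 0) ∧ (71 ∣ d ↔ D % 71 = 0) ∧ (47 ∣ d ↔ D % 47 = 0) ∧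
    (41 ∣ d ↔ D % 41 = 0) := by
  have key : ∀ {a b : ℕ}, Nat.Coprime a b → a ∣ d → b ∣ d → a * b ∣ d :=
    fun hc ha hb => Nat.Coprime.mul_dvd_of_dvd_of_dvd hc ha hb
  by_cases h59 : 59 ∣ d <;> by_cases h71 : 71 ∣ d <;> by_cases h47 : 47 ∣ d <;> by_cases h41 : 41 ∣ d
  · exact ⟨59 * (71 * 47 * 41), by decide, key (by norm_num) h59 (key (by norm_num) (key (by norm_num) h71 h47) h41),
      by simp [h59], by simp [h71], by simp [h47], by simp [h41]⟩
  · exact ⟨59 * (71 * 47), by decide, key (by norm_num) h59 (key (by norm_num) h71 h47),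
      by simp [h59], by simp [h71], by simp [h47], by simp [h41]⟩
  · exact ⟨59 * (71 * 41), by decide, key (by norm_num) h59 (key (by norm_num) h71 h41),
      by simp [h59], by simp [h71], by simp [h47], by simp [h41]⟩
  · exact ⟨59 * 71, by decide, key (by norm_num) h59 h71,
      by simp [h59], by simp [h71], by simp [h47], by simp [h41]⟩
  · exact ⟨59 * (47 * 41), by decide, key (by norm_num) h59 (key (by norm_num) h47 h41),
      by simp [h59], by simp [h71], by simp [h47], by simp [h41]⟩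
  · exact ⟨59 * 47, by decide, key (by norm_num) h59 h47,
      by simp [h59], by simp [h71], by simp [h47], by simp [h41]⟩
  · exact ⟨59 * 41, by decide, key (by norm_num) h59 h41,
      by simp [h59], by simp [h71], by simp [h47], by simp [h41]⟩
  · exact ⟨59, by decide, h59, by simp [h59], by simp [h71], by simp [h47], by simp [h41]⟩
  · exact ⟨71 * 47 * 41, by decide, key (by norm_num) (key (by norm_num) h71 h47) h41,
      by simp [h59], by simp [h71], by simp [h47], by simp [h41]⟩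
  · exact ⟨71 * 47, by decide, key (by norm_num) h71 h47,
      by simp [h59], by simp [h71], by simp [h47], by simp [h41]⟩
  · exact ⟨71 * 41, by decide, key (by norm_num) h71 h41,
      by simp [h59], by simp [h71], by simp [h47], by simp [h41]⟩
  · exact ⟨71, by decide, h71, by simp [h59], by simp [h71], by simp [h47], by simp [h41]⟩
  · exact ⟨47 * 41, by decide, key (by norm_num) h47 h41,
      by simp [h59], by simp [h71], by simp [h47], by simp [h41]⟩
  · exact ⟨47, by decide, h47, by simp [h59], by simp [h71], by simp [h47], by simp [h41]⟩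
  · exact ⟨41, by decide, h41, by simp [h59], by simp [h71], by simp [h47], by simp [h41]⟩
  · exact ⟨1, by decide, one_dvd _, by simp [h59], by simp [h71], by simp [h47], by simp [h41]⟩

theorem FO.part {d k l D : ℕ} (h : FO d k l) (hD : D ∣ d) : k * l * D ∣ d * (k * l) := by
  rw [mul_comm d]
  exact Nat.mul_dvd_mul_left _ hD

theorem FO.gcd {d k l D p b : ℕ} (h : FO d k l) (hD : D ∣ d) (hb : (p, b) ∈ adjL) (hp : p ∣ d * (k * l)) :
    Nat.gcd b (k * l * D) = 1 :=
  Nat.Coprime.coprime_dvd_right (h.part hD) (h.adj _ hb hp)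

theorem FO.tT {d k l D p b e : ℕ} (h : FO d k l) (hD : D ∣ d) (hb : (p, b) ∈ adjL) (hp : p.Prime)
    (hd : p ^ e ∣ d * (k + l)) : tT (p ^ e) b D k l = true := by
  unfold MonNum.tT
  by_cases hg : Nat.gcd b (k * l * D) = 1
  · rw [hg]
    show Nat.beq _ 0 = true
    rw [Nat.beq_eq]
    apply Nat.mod_eq_zero_of_dvd
    calc p ^ e * (k * l) ∣ d * (k + l) * (k * l) := Nat.mul_dvd_mul_right hd _
      _ = d * (k * l) * (k + l) := by ring
      _ ∣ nM * (k + l) := Nat.mul_dvd_mul_right h.c_dvd _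
  · have h1 : Nat.beq (Nat.gcd b (k * l * D)) 1 = false := by
      rw [Bool.eq_false_iff, ne_eq, Nat.beq_eq]
      exact hg
    rw [h1, cond_false, Nat.beq_eq]
    apply Nat.mod_eq_zero_of_dvd
    have hpd : ¬ p ∣ d := fun hpd => hg (h.gcd hD hb (hpd.mul_right _))
    exact (Nat.Coprime.pow_left _ ((hp.coprime_iff_not_dvd).2 hpd)).dvd_of_dvd_mul_left hd

theorem FO.tD {d k l D p : ℕ} (hDp : p ∣ d ↔ D % p = 0) (hp : p.Prime)
    (hd : p ∣ d * (k + l)) : tD p D k l = true := by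
  unfold MonNum.tD
  rw [Bool.or_eq_true, Nat.beq_eq, Nat.beq_eq]
  rcases hp.dvd_mul.1 hd with h1 | h1
  · exact Or.inl (hDp.1 h1)
  · exact Or.inr (Nat.mod_eq_zero_of_dvd h1)

theorem FO.cp {d k l D p b : ℕ} (h : FO d k l) (hD : D ∣ d) (hb : (p, b) ∈ adjL) : cp p b D k l = true := by
  unfold MonNum.cp
  rw [Bool.or_eq_true, Nat.beq_eq, Bool.not_eq_true']
  by_cases h1 : D % p = 0
  · right
    exact h.gcd hD hb (((Nat.dvd_of_mod_eq_zero h1).trans hD).mul_right _)
  · left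
    rw [Bool.eq_false_iff, ne_eq, Nat.beq_eq]
    exact h1

theorem FO.okD {d k l D : ℕ} (h : FO d k l) (hD : D ∣ d) (h59 : 59 ∣ d ↔ D % 59 = 0) (h71 : 71 ∣ d ↔ D % 71 = 0)
    (h47 : 47 ∣ d ↔ D % 47 = 0) (h41 : 41 ∣ d ↔ D % 41 = 0) : okD D k l = true := by
  have t : ∀ {p b : ℕ} (e : ℕ), (p, b) ∈ adjL → p.Prime → p ^ e ∣ d * (k + l) → MonNum.tT (p ^ e) b D k l = true :=
    fun e hb hp hd => h.tT hD hb hp hd
  have t1 : ∀ {p b : ℕ}, (p, b) ∈ adjL → p.Prime → p ∣ d * (k + l) → MonNum.tT p b D k l = true := by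
    intro p b hb hp hd
    have := h.tT (e := 1) hD hb hp (by rwa [pow_one])
    rwa [pow_one] at this
  unfold MonNum.okD
  simp only [Bool.and_eq_true]
  refine ⟨?_, ?_, h.cp hD (by decide), h.cp hD (by decide), h.cp hD (by decide), h.cp hD (by decide),
    FO.tD h59 (by norm_num) h.f59, ?_, ?_, ?_⟩
  · rw [Nat.beq_eq]
    exact Nat.mod_eq_zero_of_dvd ((Nat.mul_dvd_mul_right hD _).trans h.n_dvd)
  · rw [Nat.beq_eq]
    exact Nat.mod_eq_zero_of_dvd ((h.part hD).trans h.c_dvd)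
  · rw [Bool.or_eq_true, Bool.and_eq_true]
    rcases h.f71 with h1 | ⟨h1, h2⟩
    · exact Or.inl (FO.tD h71 (by norm_num) h1)
    · exact Or.inr ⟨t 18 (by decide) (by norm_num) h1, t 2 (by decide) (by norm_num) h2⟩
  · rw [Bool.or_eq_true, Bool.and_eq_true, Bool.and_eq_true, Bool.not_eq_true', Bool.and_eq_false_iff,
      Bool.not_eq_false', Bool.not_eq_false', Nat.beq_eq, Nat.beq_eq]
    rcases h.f41 with h1 | ⟨h1, h2⟩
    · exact Or.inl (FO.tD h41 (by norm_num) h1)
    · refine Or.inr ⟨t 5 (by decide) (by norm_num) h1, FO.tD h47 (by norm_num) h2, ?_⟩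
      by_cases h7 : (k + l) % 7 = 0
      · exact Or.inl h7
      · right
        have h8 : 7 ^ 5 ∣ d := by
          have h9 : Nat.Coprime (7 ^ 5) (k + l) := Nat.Coprime.pow_left _
            (((by norm_num : Nat.Prime 7).coprime_iff_not_dvd).2 fun h => h7 (Nat.mod_eq_zero_of_dvd h))
          exact h9.dvd_of_dvd_mul_right h1
        exact Nat.Coprime.coprime_dvd_left (h.part hD) (h.f7 (h8.mul_right _))
  · simp only [Bool.or_eq_true, Bool.and_eq_true]
    rcases h.f47 with h1 | ⟨h1, h2, h3, h4, h5, h6, h7⟩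
    · exact Or.inl (FO.tD h47 (by norm_num) h1)
    · exact Or.inr ⟨t 7 (by decide) (by norm_num) h1, t 3 (by decide) (by norm_num) h2,
        t 4 (by decide) (by norm_num) h3, t1 (by decide) (by norm_num) h4, t1 (by decide) (by norm_num) h5,
        FO.tD h41 (by norm_num) h6, FO.tD h71 (by norm_num) h7⟩

theorem FO.slow {d k l : ℕ} (h : FO d k l) : slow k l = false := by
  obtain ⟨D, hD, h1, h2, h3, h4, h5⟩ := exists_part (d := d)
  rw [MonNum.slow, List.all_eq_false]
  exact ⟨D, hD, by rw [h.okD h1 h2 h3 h4 h5]; decide⟩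

theorem FO.leaf {d k l : ℕ} (h : FO d k l) : leafO k l = false := by
  have hn : Nat.mod nM (Nat.add k l) = 0 := Nat.mod_eq_zero_of_dvd ((Dvd.intro_left _ rfl).trans h.n_dvd)
  unfold leafO
  rw [hn, h.slow]
  by_cases h1 : Nat.mod (Nat.add k l) 59 = 0
  · rw [h1]; rfl
  · have h2 : Nat.beq (Nat.mod (Nat.add k l) 59) 0 = false := by
      rw [Bool.eq_false_iff, ne_eq, Nat.beq_eq]; exact h1
    have h3 : 59 ∣ d := by
      rcases (by norm_num : Nat.Prime 59).dvd_mul.1 h.f59 with h3 | h3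
      · exact h3
      · exact absurd (Nat.mod_eq_zero_of_dvd h3) h1
    have h4 : Nat.gcd b59 (Nat.mul k l) = 1 :=
      Nat.Coprime.coprime_dvd_right (Dvd.intro_left _ rfl) (h.adj (59, b59) (by decide) (h3.mul_right _))
    rw [h2, h4]
    rfl

/-- **The odd case is impossible.** -/
theorem odd_false {d k l : ℕ} (h : FO d k l) : False := by
  have hN : nM ≠ 0 := by unfold nM; norm_num
  have hd0 : d * (k * l) ≠ 0 := fun h0 => by
    have h1 := h.c_dvd
    rw [h0, zero_dvd_iff] at h1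
    exact hN h1
  have hd : d ≠ 0 := fun h0 => hd0 (by rw [h0, zero_mul])
  have hkl : k * l ≠ 0 := fun h0 => hd0 (by rw [h0, mul_zero])
  have hk : k ≠ 0 := fun h0 => hkl (by rw [h0, zero_mul])
  have hl : l ≠ 0 := fun h0 => hkl (by rw [h0, mul_zero])
  have hdv : k * l ∣ d * (k * l) := Dvd.intro_left _ rfl
  have hprod : nM = 2 ^ 46 * (3 ^ 20 * (5 ^ 9 * (7 ^ 6 * (11 ^ 2 * (13 ^ 3 * (17 * (19 * (23 * (29 * (31 * (41 *
      (47 * (59 * 71))))))))))))) := by unfold nM; norm_num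
  have key := go_spec (I := iodd) (k := 1) (l := 1) (K := k) (L := l) (leaf := leafO) (CM := cM)
    (by unfold iodd; simp; norm_num) hk hl h.cop ?_ ?_ ?_ ?_ go_odd
  · rcases key.2 rfl rfl with h1 | h1
    · rw [one_mul, one_mul, h.leaf] at h1
      exact Bool.false_ne_true h1
    · rw [one_mul, one_mul, h.symm.leaf] at h1
      exact Bool.false_ne_true h1
  · intro p hp hpd
    have h1 : p ∣ nM := (hpd.trans hdv).trans h.c_dvd
    have h2 : ¬ p = 2 := by
      rintro rfl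
      exact h.odd (hpd.trans hdv)
    rw [hprod] at h1
    have aux : ∀ {q e : ℕ}, q.Prime → p ∣ q ^ e → p = q := fun hq hd =>
      (Nat.prime_dvd_prime_iff_eq hp hq).1 (hp.dvd_of_dvd_pow hd)
    have aux1 : ∀ {q : ℕ}, q.Prime → p ∣ q → p = q := fun hq hd => (Nat.prime_dvd_prime_iff_eq hp hq).1 hd
    have h3 : p = 3 ∨ p = 5 ∨ p = 7 ∨ p = 11 ∨ p = 13 ∨ p = 17 ∨ p = 19 ∨ p = 23 ∨ p = 29 ∨ p = 31 ∨ p = 41 ∨ p = 47 ∨
        p = 59 ∨ p = 71 := by
      rcases hp.dvd_mul.1 h1 with h1 | h1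
      · exact absurd (aux Nat.prime_two h1) h2
      rcases hp.dvd_mul.1 h1 with h1 | h1
      · exact Or.inl (aux (by norm_num) h1)
      right
      rcases hp.dvd_mul.1 h1 with h1 | h1
      · exact Or.inl (aux (by norm_num) h1)
      right
      rcases hp.dvd_mul.1 h1 with h1 | h1
      · exact Or.inl (aux (by norm_num) h1)
      right
      rcases hp.dvd_mul.1 h1 with h1 | h1
      · exact Or.inl (aux (by norm_num) h1)
      right
      rcases hp.dvd_mul.1 h1 with h1 | h1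
      · exact Or.inl (aux (by norm_num) h1)
      right
      rcases hp.dvd_mul.1 h1 with h1 | h1
      · exact Or.inl (aux1 (by norm_num) h1)
      right
      rcases hp.dvd_mul.1 h1 with h1 | h1
      · exact Or.inl (aux1 (by norm_num) h1)
      right
      rcases hp.dvd_mul.1 h1 with h1 | h1
      · exact Or.inl (aux1 (by norm_num) h1)
      right
      rcases hp.dvd_mul.1 h1 with h1 | h1
      · exact Or.inl (aux1 (by norm_num) h1)
      right
      rcases hp.dvd_mul.1 h1 with h1 | h1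
      · exact Or.inl (aux1 (by norm_num) h1)
      right
      rcases hp.dvd_mul.1 h1 with h1 | h1
      · exact Or.inl (aux1 (by norm_num) h1)
      right
      rcases hp.dvd_mul.1 h1 with h1 | h1
      · exact Or.inl (aux1 (by norm_num) h1)
      right
      rcases hp.dvd_mul.1 h1 with h1 | h1
      · exact Or.inl (aux1 (by norm_num) h1)
      · exact Or.inr (aux1 (by norm_num) h1)
    rcases h3 with rfl | rfl | rfl | rfl | rfl | rfl | rfl | rfl | rfl | rfl | rfl | rfl | rfl | rfl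
    · exact ⟨(3, 20, b3), by decide, rfl⟩
    · exact ⟨(5, 9, b5), by decide, rfl⟩
    · exact ⟨(7, 6, b7), by decide, rfl⟩
    · exact ⟨(11, 2, b11), by decide, rfl⟩
    · exact ⟨(13, 3, 1), by decide, rfl⟩
    · exact ⟨(17, 1, b17), by decide, rfl⟩
    · exact ⟨(19, 1, b19), by decide, rfl⟩
    · exact ⟨(23, 1, b23), by decide, rfl⟩
    · exact ⟨(29, 1, b29), by decide, rfl⟩
    · exact ⟨(31, 1, b31), by decide, rfl⟩
    · exact ⟨(41, 1, b41), by decide, rfl⟩
    · exact ⟨(47, 1, b47), by decide, rfl⟩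
    · exact ⟨(59, 0, b59), by decide, rfl⟩
    · exact ⟨(71, 1, b71), by decide, rfl⟩
  · -- exponents
    intro x hx hd
    have h1 : x.1 ^ (x.2.1 + 1) ∣ nM := (hd.trans hdv).trans h.c_dvd
    unfold iodd at hx
    simp only [List.mem_cons, List.not_mem_nil, or_false] at hx
    unfold nM at h1
    rcases hx with rfl | rfl | rfl | rfl | rfl | rfl | rfl | rfl | rfl | rfl | rfl | rfl | rfl | rfl
    · norm_num at h1
    · -- 59
      have h2 : 59 ∣ k * l := by simpa using hd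
      have h3 : ¬ 59 ∣ k + l := by
        intro h3
        have p59 : Nat.Prime 59 := by norm_num
        rcases p59.dvd_mul.1 h2 with h4 | h4
        · have h5 := (Nat.dvd_add_right h4).1 h3
          exact absurd (h.cop ▸ Nat.dvd_gcd h4 h5) (by norm_num)
        · have h5 := (Nat.dvd_add_left h4).1 h3
          exact absurd (h.cop ▸ Nat.dvd_gcd h5 h4) (by norm_num)
      have h4 : 59 ∣ d := ((by norm_num : Nat.Prime 59).dvd_mul.1 h.f59).resolve_right h3
      have h5 : 59 * 59 ∣ nM := (Nat.mul_dvd_mul h4 h2).trans h.c_dvd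
      unfold nM at h5
      norm_num at h5
    all_goals norm_num at h1
  · rw [one_mul, one_mul]
    refine le_trans (Nat.le_mul_of_pos_left _ (Nat.pos_of_ne_zero hd)) h.c_le
  · intro x hx hxd
    have h1 : x.1 ∣ d * (k * l) := hxd.trans hdv
    rw [one_mul, one_mul]
    unfold iodd at hx
    simp only [List.mem_cons, List.not_mem_nil, or_false] at hx
    have g : ∀ {p b : ℕ}, (p, b) ∈ adjL → p ∣ d * (k * l) → Nat.Coprime b (k * l) := fun hb hp =>
      Nat.Coprime.coprime_dvd_right hdv (h.adj _ hb hp)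
    rcases hx with rfl | rfl | rfl | rfl | rfl | rfl | rfl | rfl | rfl | rfl | rfl | rfl | rfl | rfl
    · exact g (p := 71) (by decide) h1
    · exact g (p := 59) (by decide) h1
    · exact g (p := 47) (by decide) h1
    · exact g (p := 41) (by decide) h1
    · exact g (p := 29) (by decide) h1
    · exact g (p := 31) (by decide) h1
    · exact g (p := 23) (by decide) h1
    · exact g (p := 19) (by decide) h1
    · exact g (p := 17) (by decide) h1
    · exact Nat.coprime_one_left _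
    · exact g (p := 11) (by decide) h1
    · exact g (p := 7) (by decide) h1
    · exact g (p := 5) (by decide) h1
    · exact g (p := 3) (by decide) h1

/-! ### the even case -/

/-- The facts in the even case. -/
structure FE (d k l : ℕ) : Prop where
  cop : Nat.Coprime k l
  c_dvd : d * (k * l) ∣ nE
  n_dvd : d * (k + l) ∣ nM
  c_le : d * (k * l) ≤ cM
  adj : ∀ x ∈ ieven, x.1 ∣ d * (k * l) → Nat.Coprime x.2.2 (d * (k * l))
  f59 : 59 ∣ d * (k + l)
  f71 : 71 ∣ d * (k + l) ∨ 3 ^ 18 ∣ d * (k + l) ∧ 11 ^ 2 ∣ d * (k + l)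
  f41 : 41 ∣ d * (k + l) ∨ 7 ^ 5 ∣ d * (k + l) ∧ 47 ∣ d * (k + l)

theorem FE.symm {d k l : ℕ} (h : FE d k l) : FE d l k := by
  obtain ⟨h1, h2, h3, h4, h5, h6, h7, h8⟩ := h
  rw [mul_comm k l] at h2 h4 h5
  rw [add_comm k l] at h3 h6 h7 h8
  exact ⟨h1.symm, h2, h3, h4, h5, h6, h7, h8⟩

theorem FE.big {d k l p : ℕ} (h : FE d k l) (hp : p.Prime) (hpn : ¬ p ∣ nE) (hd : p ∣ d * (k + l)) : p ∣ k + l :=
  (hp.dvd_mul.1 hd).resolve_left fun h1 => hpn ((h1.mul_right _).trans h.c_dvd)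

theorem FE.tE {d k l q : ℕ} (h : FE d k l) (hd : q ∣ d * (k + l)) :
    Nat.beq ((nE * (k + l)) % (q * (k * l))) 0 = true := by
  rw [Nat.beq_eq]
  apply Nat.mod_eq_zero_of_dvd
  calc q * (k * l) ∣ d * (k + l) * (k * l) := Nat.mul_dvd_mul_right hd _
    _ = d * (k * l) * (k + l) := by ring
    _ ∣ nE * (k + l) := Nat.mul_dvd_mul_right h.c_dvd _

theorem FE.leaf {d k l : ℕ} (h : FE d k l) : leafE k l = false := by
  have hn : Nat.mod nM (Nat.add k l) = 0 := Nat.mod_eq_zero_of_dvd ((Dvd.intro_left _ rfl).trans h.n_dvd)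
  have n59 : ¬ 59 ∣ nE := by unfold nE; norm_num
  have n71 : ¬ 71 ∣ nE := by unfold nE; norm_num
  have n41 : ¬ 41 ∣ nE := by unfold nE; norm_num
  have h59 : Nat.mod (Nat.add k l) 59 = 0 := Nat.mod_eq_zero_of_dvd (h.big (by norm_num) n59 h.f59)
  unfold leafE
  rw [hn, h59]
  show (!_) = false
  rw [Bool.not_eq_false', Bool.and_eq_true, Bool.or_eq_true, Bool.or_eq_true, Bool.and_eq_true, Bool.and_eq_true]
  constructor
  · rcases h.f71 with h1 | ⟨h1, h2⟩
    · left
      rw [Nat.beq_eq]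
      exact Nat.mod_eq_zero_of_dvd (h.big (by norm_num) n71 h1)
    · exact Or.inr ⟨h.tE h1, h.tE h2⟩
  · rcases h.f41 with h1 | ⟨h1, h2⟩
    · left
      rw [Nat.beq_eq]
      exact Nat.mod_eq_zero_of_dvd (h.big (by norm_num) n41 h1)
    · exact Or.inr ⟨h.tE h1, h.tE h2⟩

/-- **The even case is impossible.** -/
theorem even_false {d k l : ℕ} (h : FE d k l) : False := by
  have hN : nE ≠ 0 := by unfold nE; norm_num
  have hd0 : d * (k * l) ≠ 0 := fun h0 => by
    have h1 := h.c_dvd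
    rw [h0, zero_dvd_iff] at h1
    exact hN h1
  have hd : d ≠ 0 := fun h0 => hd0 (by rw [h0, zero_mul])
  have hkl : k * l ≠ 0 := fun h0 => hd0 (by rw [h0, mul_zero])
  have hk : k ≠ 0 := fun h0 => hkl (by rw [h0, zero_mul])
  have hl : l ≠ 0 := fun h0 => hkl (by rw [h0, mul_zero])
  have hdv : k * l ∣ d * (k * l) := Dvd.intro_left _ rfl
  have hprod : nE = 2 ^ 46 * (3 ^ 13 * (5 ^ 6 * (7 ^ 2 * (11 * (13 * (17 * (19 * (23 * (31 * 47))))))))) := by
    unfold nE; norm_num
  have key := go_spec (I := ieven) (k := 1) (l := 1) (K := k) (L := l) (leaf := leafE) (CM := cM)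
    (by unfold ieven; simp; norm_num) hk hl h.cop ?_ ?_ ?_ ?_ go_even
  · rcases key.2 rfl rfl with h1 | h1
    · rw [one_mul, one_mul, h.leaf] at h1
      exact Bool.false_ne_true h1
    · rw [one_mul, one_mul, h.symm.leaf] at h1
      exact Bool.false_ne_true h1
  · intro p hp hpd
    have h1 : p ∣ nE := (hpd.trans hdv).trans h.c_dvd
    rw [hprod] at h1
    have aux : ∀ {q e : ℕ}, q.Prime → p ∣ q ^ e → p = q := fun hq hd =>
      (Nat.prime_dvd_prime_iff_eq hp hq).1 (hp.dvd_of_dvd_pow hd)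
    have aux1 : ∀ {q : ℕ}, q.Prime → p ∣ q → p = q := fun hq hd => (Nat.prime_dvd_prime_iff_eq hp hq).1 hd
    have h3 : p = 2 ∨ p = 3 ∨ p = 5 ∨ p = 7 ∨ p = 11 ∨ p = 13 ∨ p = 17 ∨ p = 19 ∨ p = 23 ∨ p = 31 ∨ p = 47 := by
      rcases hp.dvd_mul.1 h1 with h1 | h1
      · exact Or.inl (aux (by norm_num) h1)
      right
      rcases hp.dvd_mul.1 h1 with h1 | h1
      · exact Or.inl (aux (by norm_num) h1)
      right
      rcases hp.dvd_mul.1 h1 with h1 | h1
      · exact Or.inl (aux (by norm_num) h1)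
      right
      rcases hp.dvd_mul.1 h1 with h1 | h1
      · exact Or.inl (aux (by norm_num) h1)
      right
      rcases hp.dvd_mul.1 h1 with h1 | h1
      · exact Or.inl (aux1 (by norm_num) h1)
      right
      rcases hp.dvd_mul.1 h1 with h1 | h1
      · exact Or.inl (aux1 (by norm_num) h1)
      right
      rcases hp.dvd_mul.1 h1 with h1 | h1
      · exact Or.inl (aux1 (by norm_num) h1)
      right
      rcases hp.dvd_mul.1 h1 with h1 | h1
      · exact Or.inl (aux1 (by norm_num) h1)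
      right
      rcases hp.dvd_mul.1 h1 with h1 | h1
      · exact Or.inl (aux1 (by norm_num) h1)
      right
      rcases hp.dvd_mul.1 h1 with h1 | h1
      · exact Or.inl (aux1 (by norm_num) h1)
      · exact Or.inr (aux1 (by norm_num) h1)
    rcases h3 with rfl | rfl | rfl | rfl | rfl | rfl | rfl | rfl | rfl | rfl | rfl
    · exact ⟨(2, 46, 1), by decide, rfl⟩
    · exact ⟨(3, 13, 47), by decide, rfl⟩
    · exact ⟨(5, 6, 17 * 23 * 47), by decide, rfl⟩
    · exact ⟨(7, 2, 11 * 19 * 23 * 31 * 47), by decide, rfl⟩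
    · exact ⟨(11, 1, 7 * 13 * 17 * 19 * 23 * 31 * 47), by decide, rfl⟩
    · exact ⟨(13, 1, 11), by decide, rfl⟩
    · exact ⟨(17, 1, 5 * 11), by decide, rfl⟩
    · exact ⟨(19, 1, 7 * 11), by decide, rfl⟩
    · exact ⟨(23, 1, 5 * 7 * 11), by decide, rfl⟩
    · exact ⟨(31, 1, 7 * 11), by decide, rfl⟩
    · exact ⟨(47, 1, 3 * 5 * 7 * 11), by decide, rfl⟩
  · intro x hx hd
    have h1 : x.1 ^ (x.2.1 + 1) ∣ nE := (hd.trans hdv).trans h.c_dvd
    unfold ieven at hx
    simp only [List.mem_cons, List.not_mem_nil, or_false] at hx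
    unfold nE at h1
    rcases hx with rfl | rfl | rfl | rfl | rfl | rfl | rfl | rfl | rfl | rfl | rfl <;> norm_num at h1
  · rw [one_mul, one_mul]
    refine le_trans (Nat.le_mul_of_pos_left _ (Nat.pos_of_ne_zero hd)) h.c_le
  · intro x hx hxd
    have h1 : x.1 ∣ d * (k * l) := hxd.trans hdv
    rw [one_mul, one_mul]
    exact Nat.Coprime.coprime_dvd_right hdv (h.adj _ hx h1)

end Cfsg.Agent.H549.TwoCyc.MonNum
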