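import Cfsg.Agent.H199.AbM
import Cfsg.Agent.H568.PairRowM
import Cfsg.Agent.H549.TwoCyc.MonArith

/-!
# The orders of the elements of the Monster (helper549)

* `na_59_71` : no element of order `59 · 71`
* `nadj` : the non-adjacent pairs of primes
* `ord_le`, `even_dvd`, `five_seven`, `even_nadj`
-/

set_option autoImplicit false
set_option maxRecDepth 100000

namespace Cfsg.Agent.H549.TwoCyc.MonFact

open Cfsg Cfsg.Agent.MonsterX Cfsg.Agent.MonsterX.InstData Cfsg.Agent.MonsterX.MainPack Cfsg.Agent.MonsterU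
open Cfsg.Agent.MonsterP Cfsg.Agent.MonsterN Cfsg.Agent.LThreeMB
open Cfsg.Agent.MonsterX.MainBasic Cfsg.Agent.MonsterX.MainSimple Cfsg.Agent.MonsterX.Model
open Cfsg.Agent.MonsterU.Lam2 Cfsg.Agent.MonsterU.TwoCls
open Cfsg.Agent.BpSpor.MBigModel Cfsg.Agent.H199.NSmMon Cfsg.Agent.H199.NSmAbs Cfsg.Agent.H199.AbMon
open Cfsg.Agent.H498.Ab Cfsg.Agent.H199.AbTool Cfsg.Agent.H199.AbRad
open Subgroup (centralizer zpowers mem_centralizer_singleton_iff)
open Cfsg.Agent.H549.TwoCyc.MonNum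

/-! ### generalities -/

theorem exists_pow {G : Type*} [Group G] [Finite G] {g : G} {p : ℕ} (h : p ∣ orderOf g) :
    ∃ x : G, orderOf x = p ∧ x ∈ zpowers g ∧ x * g = g * x ∧ orderOf g ∣ Nat.card ↥(centralizer ({x} : Set G)) := by
  obtain ⟨k, hk⟩ := h
  have hpos := orderOf_pos g
  have hk0 : k ≠ 0 := by
    rintro rfl
    omega
  have h1 : orderOf (g ^ k) = p := by
    rw [orderOf_pow' g hk0, hk, Nat.gcd_eq_right (Dvd.intro_left _ rfl), Nat.mul_div_cancel _ (Nat.pos_of_ne_zero hk0)]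
  have hc : g ^ k * g = g * g ^ k := (pow_mul_comm' g k)
  refine ⟨g ^ k, h1, ⟨(k : ℤ), by simp⟩, hc, ?_⟩
  rw [← Subgroup.orderOf_mk g (mem_centralizer_singleton_iff.2 hc.symm)]
  exact orderOf_dvd_natCard _

theorem not_both_of_cent {G : Type*} [Group G] [Finite G] {p r : ℕ}
    (h : ∀ x : G, orderOf x = p → ¬ r ∣ Nat.card ↥(centralizer ({x} : Set G))) (g : G) :
    ¬ (p ∣ orderOf g ∧ r ∣ orderOf g) := by
  rintro ⟨h1, h2⟩
  obtain ⟨x, hx, -, -, hd⟩ := exists_pow h1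
  exact h x hx (h2.trans hd)

theorem not_both_of_ord {G : Type*} [Group G] [Finite G] {p r : ℕ} (hp : p.Prime) (hr : r.Prime) (hne : p ≠ r)
    (h : ∀ x : G, orderOf x ≠ p * r) (g : G) : ¬ (p ∣ orderOf g ∧ r ∣ orderOf g) := by
  rintro ⟨h1, h2⟩
  obtain ⟨k, hk⟩ : p * r ∣ orderOf g := Nat.Coprime.mul_dvd_of_dvd_of_dvd ((Nat.coprime_primes hp hr).2 hne) h1 h2
  have hpos := orderOf_pos g
  have hk0 : k ≠ 0 := by
    rintro rfl
    omega
  refine h (g ^ k) ?_
  rw [orderOf_pow' g hk0, hk, Nat.gcd_eq_right (Dvd.intro_left _ rfl), Nat.mul_div_cancel _ (Nat.pos_of_ne_zero hk0)]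

/-! ### no element of order `59 · 71` -/

theorem num : ((H149.Sp.Eng.divs [(13, 3), (17, 1), (19, 1), (23, 1), (31, 1), (41, 1)]).all fun c =>
    [2, 29, 58].all fun k => !((nM / (71 * 59)) % (c * k) == 0 && (nM / (71 * 59)) / (c * k) % (71 * 59) == 1)) = true := by
  decide +kernel

open Cfsg.Agent.H163.PG Cfsg.Agent.H393.Iso Cfsg.Agent.H149.Sp Cfsg.Agent.H966 in
theorem na_59_71 (g : Spor.Monster) : orderOf g ≠ 59 * 71 := by
  intro hg
  have hfin := H966.RowM.finite_m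
  have hsim := RowM.simple_m
  have hI : Spor.IsoM Spor.Monster := ⟨MulEquiv.refl _⟩
  have hcm : Nat.card Spor.Monster = 808017424794512875886459904961710757005754368000000000 := RowM.card_m
  have p59 : Nat.Prime 59 := by norm_num
  have p71 : Nat.Prime 71 := by norm_num
  have s59 : ¬ 59 ^ 2 ∣ Nat.card Spor.Monster := by rw [hcm]; norm_num
  have s71 : ¬ 71 ^ 2 ∣ Nat.card Spor.Monster := by rw [hcm]; norm_num
  have n71 : NA 71 Spor.Monster := na_m hI (Or.inr (Or.inr rfl))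
  have n59 : NA 59 Spor.Monster := na_m hI (Or.inr (Or.inl rfl))
  have hp : ∀ x ∈ H568.PairRowM.lM, Nat.Prime x.1 := by simp; norm_num
  have hLM : Nat.card Spor.Monster = Eng.prodL H568.PairRowM.lM := by rw [hcm]; decide +kernel
  have hg59 := Eng.good_of_ok hp (by decide) (s := 59) (by decide +kernel) hLM
  have ha : Adj Spor.Monster 71 59 := ⟨g, hg.trans (mul_comm _ _)⟩
  obtain ⟨u, v, hu, hv, huv⟩ := ha.exists_commute p71 p59
  obtain ⟨c, k, -, hN, hodd, hk, hk1, hi, hadj⟩ := Eng.pair p71 p59 (by norm_num) s71 s59 n71 n59 hg59 hu hv huv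
  have hprod : 71 * 59 * c * k * (Eng.Nm v).index = nM := by
    rw [← hN, (Eng.Nm v).card_mul_index, hcm]; rfl
  set idx := (Eng.Nm v).index with hidx
  -- the isomorphism with the model
  obtain ⟨f⟩ := Cfsg.Agent.MonsterP.Equiv.equiv
  have hfinM : Finite MG := finite
  have kill : ∀ {t : ℕ}, t.Prime → (∀ x : MG, orderOf x = t → ¬ 59 ∣ Nat.card ↥(centralizer ({x} : Set MG))) →
      ¬ t ∣ c := by
    intro t ht h h1
    obtain ⟨y, hy⟩ := hadj t ht h1
    refine not_both_of_cent h (f y) ?_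
    rw [MulEquiv.orderOf_eq, hy]
    exact ⟨Dvd.intro _ rfl, Dvd.intro_left _ rfl⟩
  have c3 : ¬ 3 ∣ c := kill (by norm_num) fun x hx => three_not_dvd (by simp) hx
  have c5 : ¬ 5 ∣ c := kill (by norm_num) fun x hx => five_not_dvd' (by simp) hx
  have c7 : ¬ 7 ∣ c := kill (by norm_num) fun x hx => seven_not_dvd (by simp) hx
  have c11 : ¬ 11 ∣ c := kill (by norm_num) fun x hx => eleven_not_dvd (by simp) hx
  have c29 : ¬ 29 ∣ c := fun h => m_29_59 hI (hadj 29 (by norm_num) h)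
  have c47 : ¬ 47 ∣ c := fun h => by
    obtain ⟨g, hg⟩ := hadj 47 (by norm_num) h
    exact H568.PairRowM.no_order_47_59 g hg
  have c2 : ¬ 2 ∣ c := fun h => by
    rcases hodd with ⟨m, hm⟩
    omega
  have d0 : c ∣ 2 ^ 46 * (3 ^ 20 * (5 ^ 9 * (7 ^ 6 * (11 ^ 2 * (29 ^ 1 * (47 ^ 1 *
      (13 ^ 3 * 17 * 19 * 23 * 31 * 41))))))) := by
    have h1 : 71 * 59 * c ∣ 71 * 59 * (2 ^ 46 * (3 ^ 20 * (5 ^ 9 * (7 ^ 6 * (11 ^ 2 * (29 ^ 1 * (47 ^ 1 *
      (13 ^ 3 * 17 * 19 * 23 * 31 * 41)))))))) := by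
      have h2 : 71 * 59 * c ∣ nM := ⟨k * idx, by rw [← hprod]; ring⟩
      refine h2.trans (dvd_of_eq ?_)
      unfold nM
      norm_num
    exact Nat.dvd_of_mul_dvd_mul_left (by norm_num) h1
  have rm' : ∀ {n p e M : ℕ}, p.Prime → ¬ p ∣ n → n ∣ p ^ e * M → n ∣ M := fun hp hn h =>
    H199.AbM.rm hp h rfl hn
  have d1 := rm' (by norm_num) c47 (rm' (by norm_num) c29 (rm' (by norm_num) c11 (rm' (by norm_num) c7
    (rm' (by norm_num) c5 (rm' (by norm_num) c3 (rm' (by norm_num) c2 d0))))))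
  have d2 : c ∈ Eng.divs [(13, 3), (17, 1), (19, 1), (23, 1), (31, 1), (41, 1)] := by
    refine Eng.mem_divs (by simp; norm_num) (d1.trans (dvd_of_eq ?_))
    simp [Eng.prodL]
  have hk' : k ∈ [2, 29, 58] := Eng.okKs_spec (s := 59) (by decide) (by norm_num) hk hk1
  have h3 := num
  rw [List.all_eq_true] at h3
  have h4 := h3 c d2
  rw [List.all_eq_true] at h4
  have h5 := h4 k hk'
  have hc0 : 0 < c := Nat.pos_of_ne_zero fun h0 => by
    rw [h0, mul_zero, zero_mul, zero_mul] at hprod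
    unfold nM at hprod
    omega
  have hk0 : 0 < k := Nat.pos_of_ne_zero fun h0 => by
    rw [h0, mul_zero, zero_mul] at hprod
    unfold nM at hprod
    omega
  have e1 : nM / (71 * 59) = c * k * idx := by
    rw [← hprod, show 71 * 59 * c * k * idx = 71 * 59 * (c * k * idx) by ring]
    exact Nat.mul_div_cancel_left _ (by norm_num)
  rw [e1, Nat.mul_mod_right, Nat.mul_div_cancel_left _ (Nat.mul_pos hc0 hk0), hi] at h5
  exact absurd h5 (by decide)

/-! ### the non-adjacent pairs -/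

/-- the non-adjacent pairs -/
def prs : List (ℕ × ℕ) :=
  [(3, 47), (3, 59), (3, 71), (5, 17), (5, 23), (5, 29), (5, 47), (5, 59), (7, 23), (7, 31), (7, 41), (7, 47), (7, 59),
    (11, 17), (11, 19), (11, 29), (11, 31), (11, 41), (11, 47), (11, 59), (11, 71), (29, 47), (29, 59), (47, 59),
    (47, 71), (47, 41), (59, 71)]

theorem nadj (g : Spor.Monster) {p r : ℕ} (h : (p, r) ∈ prs) : ¬ (p ∣ orderOf g ∧ r ∣ orderOf g) := by
  have hfin := H966.RowM.finite_m
  have hI : Spor.IsoM Spor.Monster := ⟨MulEquiv.refl _⟩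
  obtain ⟨f⟩ := Cfsg.Agent.MonsterP.Equiv.equiv
  have hfinM : Finite MG := finite
  rw [← MulEquiv.orderOf_eq f g]
  have k3 : ∀ {r : ℕ}, (r = 47 ∨ r = 59 ∨ r = 71) → ¬ (3 ∣ orderOf (f g) ∧ r ∣ orderOf (f g)) := fun hr =>
    not_both_of_cent (fun x hx => three_not_dvd hr hx) _
  have k5 : ∀ {r : ℕ}, (r = 17 ∨ r = 23 ∨ r = 29 ∨ r = 47 ∨ r = 59) → ¬ (5 ∣ orderOf (f g) ∧ r ∣ orderOf (f g)) :=
    fun hr => not_both_of_cent (fun x hx => five_not_dvd' hr hx) _
  have k7 : ∀ {r : ℕ}, (r = 23 ∨ r = 31 ∨ r = 41 ∨ r = 47 ∨ r = 59) → ¬ (7 ∣ orderOf (f g) ∧ r ∣ orderOf (f g)) :=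
    fun hr => not_both_of_cent (fun x hx => seven_not_dvd hr hx) _
  have k11 : ∀ {r : ℕ}, (r = 17 ∨ r = 19 ∨ r = 29 ∨ r = 31 ∨ r = 41 ∨ r = 47 ∨ r = 59 ∨ r = 71) →
      ¬ (11 ∣ orderOf (f g) ∧ r ∣ orderOf (f g)) := fun hr => not_both_of_cent (fun x hx => eleven_not_dvd hr hx) _
  unfold prs at h
  simp only [List.mem_cons, Prod.mk.injEq, List.not_mem_nil, or_false] at h
  rcases h with ⟨rfl, rfl⟩ | ⟨rfl, rfl⟩ | ⟨rfl, rfl⟩ | ⟨rfl, rfl⟩ | ⟨rfl, rfl⟩ | ⟨rfl, rfl⟩ | ⟨rfl, rfl⟩ |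
    ⟨rfl, rfl⟩ | ⟨rfl, rfl⟩ | ⟨rfl, rfl⟩ | ⟨rfl, rfl⟩ | ⟨rfl, rfl⟩ | ⟨rfl, rfl⟩ | ⟨rfl, rfl⟩ | ⟨rfl, rfl⟩ |
    ⟨rfl, rfl⟩ | ⟨rfl, rfl⟩ | ⟨rfl, rfl⟩ | ⟨rfl, rfl⟩ | ⟨rfl, rfl⟩ | ⟨rfl, rfl⟩ | ⟨rfl, rfl⟩ | ⟨rfl, rfl⟩ |
    ⟨rfl, rfl⟩ | ⟨rfl, rfl⟩ | ⟨rfl, rfl⟩ | ⟨rfl, rfl⟩
  · exact k3 (by simp)
  · exact k3 (by simp)
  · exact k3 (by simp)
  · exact k5 (by simp)
  · exact k5 (by simp)
  · exact k5 (by simp)
  · exact k5 (by simp)
  · exact k5 (by simp)
  · exact k7 (by simp)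
  · exact k7 (by simp)
  · exact k7 (by simp)
  · exact k7 (by simp)
  · exact k7 (by simp)
  · exact k11 (by simp)
  · exact k11 (by simp)
  · exact k11 (by simp)
  · exact k11 (by simp)
  · exact k11 (by simp)
  · exact k11 (by simp)
  · exact k11 (by simp)
  · exact k11 (by simp)
  · rw [MulEquiv.orderOf_eq f g]
    exact not_both_of_ord (by norm_num) (by norm_num) (by norm_num)
      (fun x => H568.PairRowM.no_order_29_47 hI x) g
  · rw [MulEquiv.orderOf_eq f g]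
    exact not_both_of_ord (by norm_num) (by norm_num) (by norm_num)
      (fun x hx => Cfsg.Agent.H149.Sp.m_29_59 hI ⟨x, hx⟩) g
  · rw [MulEquiv.orderOf_eq f g]
    exact not_both_of_ord (by norm_num) (by norm_num) (by norm_num) H568.PairRowM.no_order_47_59 g
  · rw [MulEquiv.orderOf_eq f g]
    exact not_both_of_ord (by norm_num) (by norm_num) (by norm_num) H568.PairRowM.no_order_47_71 g
  · rw [MulEquiv.orderOf_eq f g]
    exact not_both_of_ord (by norm_num) (by norm_num) (by norm_num) H568.PairRowM.no_order_47_41 g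
  · rw [MulEquiv.orderOf_eq f g]
    exact not_both_of_ord (by norm_num) (by norm_num) (by norm_num) na_59_71 g

/-! ### the model -/

/-- a bound for the orders -/
theorem ord_le (x : MG) : orderOf x ≤ 931000000000000000 := by
  have := finite
  have hA : IsMulCommutative ↥(zpowers x) := inferInstance
  rw [← Nat.card_zpowers]
  by_cases h2 : 2 ∣ Nat.card ↥(zpowers x)
  · obtain ⟨t, ht, -, hle⟩ := H199.AbTool.exists_le_centralizer hA Nat.prime_two h2
    exact apply (H199.AbM.le_inv ht) hA hle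
  · exact H199.AbM.odd_case hA h2

/-- the order of the centralizer of an involution -/
theorem card_inv {v : MG} (hv : orderOf v = 2) : Nat.card ↥(centralizer ({v} : Set MG)) ∣ nE := by
  have := finite
  rcases cls hv with ⟨g, rfl⟩ | h
  · rw [BpSpor.card_cent_of_conj (c := g) rfl, card_cent_z]
    unfold nE
    norm_num
  · have h1 : Nat.card ↥(centralizer ({v} : Set MG)) =
        Nat.card ↥(centralizer ({tG LitFin.all.hG LitFin.all.hR} : Set MG)) := by
      obtain ⟨g, hg⟩ := isConj_iff.1 h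
      exact BpSpor.card_cent_of_conj hg
    rw [h1, card_cent_t LitFin.all.hG LitFin.all.hR LitFin.all.hL LitFin.all.hO LitFin.all.hT]
    unfold nE
    norm_num

theorem even_dvd {x : MG} (h : 2 ∣ orderOf x) : orderOf x ∣ nE := by
  have := finite
  obtain ⟨v, hv, -, -, hd⟩ := exists_pow h
  exact hd.trans (card_inv hv)

/-- `7 ^ 5` divides the order: no large prime -/
theorem five_seven {x : MG} (h : 7 ^ 5 ∣ orderOf x) {r : ℕ} (hr : Big r) : ¬ r ∣ orderOf x := by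
  have := finite
  have hA : IsMulCommutative ↥(zpowers x) := inferInstance
  rw [← Nat.card_zpowers] at h ⊢
  obtain ⟨g, y, hy, hyN, hyt⟩ := exists_common (p := 7) (n := 6) (a := 5) (b := 2) (by norm_num)
    (by rw [card_M]; norm_num) (N := zpowers x) (T := centralizer ({zz} : Set MG)) h
    (by rw [card_cent_z]; norm_num) (by norm_num)
  have he : Ev y := by
    refine ⟨g⁻¹, ?_⟩
    have hyt' := mem_centralizer_singleton_iff.1 hyt
    calc g⁻¹ * zz * g⁻¹⁻¹ * y = g⁻¹ * (zz * (g * y * g⁻¹)) * g := by group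
      _ = g⁻¹ * ((g * y * g⁻¹) * zz) * g := by rw [hyt']
      _ = _ := by group
  have hd := H199.AbTool.dvd_cent hA hyN
  rcases H70.MSeven.seven hy he with h1 | h1
  · rw [h1] at hd
    exact absurd (h.trans hd) (by norm_num)
  · exact fun h2 => h1 r hr (h2.trans hd)

/-- even order: more non-adjacent pairs -/
theorem even_nadj {x : MG} (h : 2 ∣ orderOf x) :
    (7 ∣ orderOf x → ¬ 19 ∣ orderOf x) ∧ (11 ∣ orderOf x → ¬ 7 ∣ orderOf x ∧ ¬ 13 ∣ orderOf x ∧ ¬ 23 ∣ orderOf x) := by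
  have := finite
  obtain ⟨v, hv, hvx, hc, -⟩ := exists_pow h
  constructor
  · intro h7 h19
    obtain ⟨y, hy, hyx, hyc, hd⟩ := exists_pow h7
    have he : Ev y := by
      refine Cfsg.Agent.MSevenT.hex7 y hy ?_
      exact h.trans hd
    rcases H70.MSeven.seven hy he with h1 | h1
    · have h2 := h19.trans hd
      rw [h1] at h2
      exact absurd h2 (by norm_num)
    · exact h1 19 (by unfold Big; simp) (h19.trans hd)
  · intro h11
    obtain ⟨y, hy, hyx, hyc, hd⟩ := exists_pow h11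
    have hvy : y * v = v * y := by
      obtain ⟨m, hm⟩ := Subgroup.mem_zpowers_iff.1 hvx
      rw [← hm]
      exact (show Commute y x from hyc).zpow_right m
    have he : Ev y := BpSpor.MBigEleven.comm_z hy hv hvy
    have h1 := eleven hy he
    rw [h1] at hd
    refine ⟨fun h2 => ?_, fun h2 => ?_, fun h2 => ?_⟩
    · exact absurd (h2.trans hd) (by norm_num)
    · exact absurd (h2.trans hd) (by norm_num)
    · exact absurd (h2.trans hd) (by norm_num)

end Cfsg.Agent.H549.TwoCyc.MonFact
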