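import Cfsg.Agent.H966.Pair

/-!
# Sections (helper549)

`exists_section` : `r` divides the order of `D` exactly once, `r ∤ p ^ i - 1` for `p ^ i ∣ |D|`, `p ∤ r - 1`, no element
of order `r p`. If `p ^ (a + 1)` divides `|D|`, then it divides the order of a simple section `T` with `r ∣ |T|`.
-/

set_option autoImplicit false

namespace Cfsg.Agent.H549.TwoCyc.MonSec

open Subgroup Cfsg.Agent.H568

universe u

/-- The Frattini step. -/
theorem frattini_step {D : Type*} [Group D] [Finite D] {l m : ℕ} (hl : l.Prime) (hm : m.Prime) (hlm : l ≠ m)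
    (hml : ∀ k : ℕ, k ≠ 0 → l ^ k ∣ Nat.card D → ¬ m ∣ l ^ k - 1) (N : Subgroup D) [N.Normal] (h1 : l ∣ Nat.card N)
    (h5 : m ∣ Nat.card (D ⧸ N)) : ∃ g : D, orderOf g = l * m := by
  have hfl : Fact l.Prime := ⟨hl⟩
  have hfm : Fact m.Prime := ⟨hm⟩
  obtain ⟨P⟩ : Nonempty (Sylow l N) := inferInstance
  set Q : Subgroup D := (P : Subgroup N).map N.subtype with hQ
  have hPQ : Nat.card Q = Nat.card (P : Subgroup N) :=
    Nat.card_congr ((P : Subgroup N).equivMapOfInjective _ N.subtype_injective).symm.toEquiv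
  have hsup : normalizer (Q : Set D) ⊔ N = ⊤ := Sylow.normalizer_sup_eq_top P
  have h6 : m ∣ Nat.card ↥(normalizer (Q : Set D)) := by
    refine h5.trans ?_
    refine Subgroup.card_dvd_of_surjective ((QuotientGroup.mk' N).comp (normalizer (Q : Set D)).subtype) ?_
    intro x
    obtain ⟨g, rfl⟩ := QuotientGroup.mk'_surjective N x
    have hg : g ∈ normalizer (Q : Set D) ⊔ N := hsup ▸ mem_top g
    obtain ⟨y, hy, z, hz, rfl⟩ := Subgroup.mem_sup_of_normal_right.1 hg
    refine ⟨⟨y, hy⟩, ?_⟩
    show QuotientGroup.mk' N y = QuotientGroup.mk' N (y * z)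
    rw [map_mul, (QuotientGroup.eq_one_iff z).2 hz |> fun h => (show QuotientGroup.mk' N z = 1 from h), mul_one]
  obtain ⟨⟨y, hyN⟩, hy⟩ := exists_prime_orderOf_dvd_card' m h6
  have hy' : orderOf y = m := by rw [← hy]; exact (Subgroup.orderOf_mk y hyN).symm
  have h7 : l ∣ Nat.card Q := by
    rw [hPQ]
    exact P.dvd_card_of_dvd_card h1
  obtain ⟨⟨c, hcQ⟩, hc⟩ := exists_prime_orderOf_dvd_card' l h7
  have hc' : orderOf c = l := by rw [← hc]; exact (Subgroup.orderOf_mk c hcQ).symm
  have hQp : IsPGroup l Q := by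
    rw [hQ]
    exact P.isPGroup'.map _
  have h8 : PCent l y := H966.SporCrit.pcent_of_order hm hy' hlm.symm hml
  have h9 : y * c = c * y := h8 Q hQp hyN c hcQ
  refine ⟨c * y, ?_⟩
  rw [(show Commute c y from h9.symm).orderOf_mul_eq_mul_orderOf_of_coprime
    (by rw [hc', hy']; exact (Nat.coprime_primes hl hm).2 hlm), hc', hy']

/-- **The section.** -/
theorem exists_section {r p : ℕ} (hr : r.Prime) (hp : p.Prime) (hne : r ≠ p) (hpr : ¬ p ∣ r - 1) (a n : ℕ) :
    ∀ (D : Type u) [Group D] [Finite D], Nat.card D = n → r ∣ Nat.card D → ¬ r ^ 2 ∣ Nat.card D →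
    (∀ k : ℕ, k ≠ 0 → p ^ k ∣ Nat.card D → ¬ r ∣ p ^ k - 1) → (∀ g : D, orderOf g ≠ r * p) →
    p ^ (a + 1) ∣ Nat.card D → ∃ (T : Type u) (_ : Group T) (_ : Finite T), IsSimpleGroup T ∧
      r ∣ Nat.card T ∧ p ^ (a + 1) ∣ Nat.card T ∧ Nat.card T ∣ Nat.card D := by
  induction n using Nat.strong_induction_on with
  | _ n ih =>
    intro D _ _ hn d1 d1' hk hno hpa
    by_cases hs : IsSimpleGroup D
    · exact ⟨D, inferInstance, inferInstance, hs, d1, hpa, dvd_rfl⟩
    · have hnt : Nontrivial D := by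
        by_contra hcon
        rw [not_nontrivial_iff_subsingleton] at hcon
        rw [Nat.card_of_subsingleton (1 : D)] at d1
        exact hr.one_lt.ne' (Nat.dvd_one.1 d1)
      obtain ⟨N, hN, hNb, hNt⟩ : ∃ N : Subgroup D, N.Normal ∧ N ≠ ⊥ ∧ N ≠ ⊤ := by
        by_contra hcon
        push Not at hcon
        exact hs ⟨fun H hH => by
          by_cases hb : H = ⊥
          · exact Or.inl hb
          · exact Or.inr (hcon H hH hb)⟩
      have hcard := N.card_eq_card_quotient_mul_card_subgroup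
      have hpos : 0 < Nat.card D := Nat.card_pos
      have hNlt : Nat.card N < n := by
        rw [← hn]
        refine lt_of_le_of_ne (Nat.le_of_dvd hpos (Subgroup.card_subgroup_dvd_card N)) ?_
        intro h
        exact hNt (Subgroup.eq_top_of_card_eq N h)
      have hQlt : Nat.card (D ⧸ N) < n := by
        rw [← hn]
        refine lt_of_le_of_ne (Nat.le_of_dvd hpos (hcard ▸ Dvd.intro _ rfl)) ?_
        intro h
        rw [← h] at hcard
        have h3 : Nat.card N = 1 := by
          have h4 : 0 < Nat.card (D ⧸ N) := Nat.card_pos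
          exact Nat.eq_of_mul_eq_mul_left h4 (by rw [mul_one]; exact hcard.symm)
        exact hNb (Subgroup.card_eq_one.1 h3)
      have hNd : Nat.card N ∣ Nat.card D := Subgroup.card_subgroup_dvd_card N
      have hQd : Nat.card (D ⧸ N) ∣ Nat.card D := hcard ▸ Dvd.intro _ rfl
      by_cases c1 : r ∣ Nat.card N
      · -- `p` does not divide the order of `D / N`
        have c2 : ¬ p ∣ Nat.card (D ⧸ N) := by
          intro c2
          obtain ⟨g, hg⟩ := frattini_step hr hp hne (fun k hk0 hkd => by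
            have hk1 : k = 1 := by
              by_contra hne1
              exact d1' ((pow_dvd_pow r (by omega : 2 ≤ k)).trans hkd)
            rw [hk1, pow_one]
            exact hpr) N c1 c2
          exact hno g hg
        have c3 : p ^ (a + 1) ∣ Nat.card N := by
          rw [hcard] at hpa
          exact (Nat.Coprime.pow_left _ ((hp.coprime_iff_not_dvd).2 c2)).dvd_of_dvd_mul_left hpa
        obtain ⟨T, iT, fT, hT, h1, h2, h3⟩ := ih _ hNlt N rfl c1 (fun h => d1' (h.trans hNd))
          (fun k hk0 hkd => hk k hk0 (hkd.trans hNd)) (fun g hg => hno (g : D) (by rw [Subgroup.orderOf_coe]; exact hg)) c3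
        exact ⟨T, iT, fT, hT, h1, h2, h3.trans hNd⟩
      · have e1 : r ∣ Nat.card (D ⧸ N) := by
          rw [hcard] at d1
          exact (hr.dvd_mul.1 d1).resolve_right c1
        have c2 : ¬ p ∣ Nat.card N := by
          intro c2
          obtain ⟨g, hg⟩ := frattini_step hp hr hne.symm hk N c2 e1
          exact hno g (hg.trans (mul_comm _ _))
        have c3 : p ^ (a + 1) ∣ Nat.card (D ⧸ N) := by
          rw [hcard] at hpa
          exact (Nat.Coprime.pow_left _ ((hp.coprime_iff_not_dvd).2 c2)).dvd_of_dvd_mul_right hpa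
        obtain ⟨T, iT, fT, hT, h1, h2, h3⟩ := ih _ hQlt (D ⧸ N) rfl e1 (fun h => d1' (h.trans hQd))
          (fun k hk0 hkd => hk k hk0 (hkd.trans hQd)) (fun g hg => by
            obtain ⟨x, rfl⟩ := QuotientGroup.mk'_surjective N g
            have h3 : r * p ∣ orderOf x := hg ▸ orderOf_map_dvd (QuotientGroup.mk' N) x
            obtain ⟨k, hk⟩ := h3
            have hk0 : k ≠ 0 := by
              rintro rfl
              have := orderOf_pos x
              omega
            refine hno (x ^ k) ?_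
            rw [orderOf_pow' x hk0, hk, Nat.gcd_eq_right (Dvd.intro_left _ rfl),
              Nat.mul_div_cancel _ (Nat.pos_of_ne_zero hk0)]) c3
        exact ⟨T, iT, fT, hT, h1, h2, h3.trans hQd⟩

/-- numbers: `p ^ e ∣ h i`, `p ^ (a + 1) ∤ h` -/
theorem pow_dvd_of {p e a h i : ℕ} (hp : p.Prime) (hd : p ^ e ∣ h * i) (hn : ¬ p ^ (a + 1) ∣ h) : p ^ (e - a) ∣ i := by
  have hh : h ≠ 0 := fun h0 => hn (h0 ▸ dvd_zero _)
  obtain ⟨s, h', hh', rfl⟩ := Nat.exists_eq_pow_mul_and_not_dvd hh p hp.ne_one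
  have hsa : s ≤ a := by
    by_contra hcon
    exact hn ((pow_dvd_pow p (by omega : a + 1 ≤ s)).mul_right _)
  rcases le_or_gt e s with hes | hes
  · have h0 : e - a = 0 := by omega
    rw [h0, pow_zero]
    exact one_dvd _
  · have h1 : p ^ (e - s) ∣ h' * i := by
      have h2 : p ^ s * p ^ (e - s) ∣ p ^ s * (h' * i) := by
        rw [← pow_add, show s + (e - s) = e by omega, ← mul_assoc]
        exact hd
      exact Nat.dvd_of_mul_dvd_mul_left (pow_pos hp.pos s) h2
    have h2 : p ^ (e - s) ∣ i :=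
      (Nat.Coprime.pow_left _ ((hp.coprime_iff_not_dvd).2 hh')).dvd_of_dvd_mul_left h1
    exact (pow_dvd_pow p (by omega)).trans h2

end Cfsg.Agent.H549.TwoCyc.MonSec
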