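import Cfsg.Agent.H966.PairNum
import Cfsg.Agent.OrdDiv.Table
import Cfsg.Agent.H549.TwoCyc.MonSec

/-!
# Simple sections of the Monster (helper549)

`no_sec` : the primes 59, 71, 41, 47 and the orders of the simple groups whose order properly divides the order of the
Monster.
-/

set_option autoImplicit false

namespace Cfsg.Agent.H549.TwoCyc.MonTab

open Subgroup Cfsg Cfsg.Agent.OrdDiv

universe u

/-- `(r, p, a)`: no simple `T` with `r ∣ |T|`, `p ^ (a + 1) ∣ |T|`. -/
def trip : List (ℕ × ℕ × ℕ) :=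
  [(59, 3, 1), (59, 5, 1), (59, 7, 0), (71, 3, 2), (71, 11, 0), (41, 7, 1), (41, 47, 0), (47, 3, 13), (47, 5, 6),
    (47, 7, 2), (47, 11, 1), (47, 29, 0), (47, 41, 0), (47, 71, 0)]

/-- the test -/
def bad (c : ℕ) : Bool := c != 808017424794512875886459904961710757005754368000000000 &&
  trip.any fun t => c % t.1 == 0 && c % (t.2.1 ^ (t.2.2 + 1)) == 0

theorem tab : ((cands [(2,46),(3,20),(5,9),(7,6),(11,2),(13,3),(17,1),(19,1),(23,1),(29,1),(31,1),(41,1),(47,1),
    (59,1),(71,1)] 808017424794512875886459904961710757005754368000000000).filter fun g => bad (ordN g)).isEmpty =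
      true := by decide +kernel

/-- **No section.** -/
theorem no_sec (hK : ∀ (T : Type u) [Group T] [Finite T] [IsSimpleGroup T], IsKnownSimple' T) {r p a : ℕ}
    (ht : (r, p, a) ∈ trip) (hr : r.Prime) (hp : p.Prime) (hne : r ≠ p) (X : Type u) [Group X] [Finite X]
    (hX : IsSimpleGroup X) (h1 : r ∣ Nat.card X) (h2 : p ^ (a + 1) ∣ Nat.card X)
    (h3 : Nat.card X ∣ 808017424794512875886459904961710757005754368000000000)
    (h4 : Nat.card X ≠ 808017424794512875886459904961710757005754368000000000) : False := by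
  have hna : ¬ ∀ x y : X, x * y = y * x := by
    intro hcomm
    have h5 : (Nat.card X).Prime := by
      have : IsMulCommutative X := ⟨⟨hcomm⟩⟩
      let _ : CommGroup X := { (inferInstance : Group X) with mul_comm := hcomm }
      exact IsSimpleGroup.prime_card
    exact hne (((Nat.prime_dvd_prime_iff_eq hr h5).1 h1).trans
      ((Nat.prime_dvd_prime_iff_eq hp h5).1 ((dvd_pow_self p (Nat.succ_ne_zero a)).trans h2)).symm)
  obtain ⟨g, hg, -⟩ := exists_real_filter OrdDiv.table (hK X) hna H966.PairNum.m_valid h3 (fun c => bad c) (by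
    unfold bad
    simp only [Bool.and_eq_true, beq_iff_eq, List.any_eq_true, bne_iff_ne, ne_eq]
    exact ⟨h4, _, ht, Nat.mod_eq_zero_of_dvd h1, Nat.mod_eq_zero_of_dvd h2⟩)
  have ht := tab
  rw [List.isEmpty_iff] at ht
  rw [ht] at hg
  exact absurd hg List.not_mem_nil

/-- **The index of a proper subgroup.** -/
theorem index_dvd (hK : ∀ (T : Type u) [Group T] [Finite T] [IsSimpleGroup T], IsKnownSimple' T) {G : Type u} [Group G]
    [Finite G] (hG : Nat.card G = 808017424794512875886459904961710757005754368000000000) {r p a e : ℕ}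
    (ht : (r, p, a) ∈ trip) (hr : r.Prime) (hp : p.Prime) (hne : r ≠ p) (hpr : ¬ p ∣ r - 1)
    (hr2 : ¬ r ^ 2 ∣ 808017424794512875886459904961710757005754368000000000)
    (hpe : p ^ e ∣ 808017424794512875886459904961710757005754368000000000)
    (hk : ∀ k : ℕ, k ≠ 0 → p ^ k ∣ 808017424794512875886459904961710757005754368000000000 → ¬ r ∣ p ^ k - 1)
    (hno : ∀ g : G, orderOf g ≠ r * p) {H : Subgroup G} (hH : H ≠ ⊤) (h1 : r ∣ Nat.card ↥H) :
    p ^ (e - a) ∣ H.index := by
  have hd : Nat.card ↥H ∣ 808017424794512875886459904961710757005754368000000000 := by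
    rw [← hG]
    exact Subgroup.card_subgroup_dvd_card H
  have hlt : Nat.card ↥H ≠ 808017424794512875886459904961710757005754368000000000 := by
    intro h
    exact hH (Subgroup.eq_top_of_card_eq H (h.trans hG.symm))
  refine MonSec.pow_dvd_of hp (h := Nat.card ↥H) (e := e) (a := a) ?_ ?_
  · rw [H.card_mul_index, hG]
    exact hpe
  · intro h2
    obtain ⟨T, iT, fT, hT, h3, h4, h5⟩ := MonSec.exists_section hr hp hne hpr a _ ↥H rfl h1
      (fun h => hr2 (h.trans hd)) (fun k hk0 hkd => hk k hk0 (hkd.trans hd))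
      (fun g hg => hno (g : G) (by rw [Subgroup.orderOf_coe]; exact hg)) h2
    refine no_sec hK ht hr hp hne T hT h3 h4 (h5.trans hd) fun h6 => hlt ?_
    exact Nat.dvd_antisymm hd (h6 ▸ h5)

end Cfsg.Agent.H549.TwoCyc.MonTab
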