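import Cfsg.Agent.H549.TwoCyc.MonFact
import Cfsg.Agent.H549.TwoCyc.MonTab

/-!
# The Monster in S3507: no element with two cycles (helper549)

`kill` : no element of the Monster has exactly two cycles (of lengths `k`, `l`) on the cosets of a proper subgroup.
-/

set_option autoImplicit false
set_option maxRecDepth 100000

namespace Cfsg.Agent.H549.TwoCyc.MonKill

open Cfsg Cfsg.Agent.H549.TwoCyc.MonNum Cfsg.Agent.H549.TwoCyc.MonTab Cfsg.Agent.H549.TwoCyc.MonFact
open Cfsg.Agent.BpSpor.MBigModel (MG)

/-- `k ≤ e` from `p ^ k ∣ N`, `p ^ (e + 1) ∤ N` -/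
theorem le_of {p k e N : ℕ} (h : ¬ p ^ (e + 1) ∣ N) (hk : p ^ k ∣ N) : k ≤ e := by
  by_contra hcon
  exact h ((pow_dvd_pow p (by omega : e + 1 ≤ k)).trans hk)

section
variable (hK : ∀ (T : Type) [Group T] [Finite T] [IsSimpleGroup T], IsKnownSimple' T) {H : Subgroup Spor.Monster}
  (hH : H ≠ ⊤)
include hK hH

theorem i59 (h : ¬ 59 ∣ H.index) : 3 ^ 19 ∣ H.index ∧ 5 ^ 8 ∣ H.index ∧ 7 ^ 6 ∣ H.index := by
  have hfin := H966.RowM.finite_m
  have hc : Nat.card Spor.Monster = 808017424794512875886459904961710757005754368000000000 := H966.RowM.card_m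
  have h1 : 59 ∣ Nat.card ↥H := by
    have h2 := H.card_mul_index
    rw [hc] at h2
    have h3 : 59 ∣ Nat.card ↥H * H.index := by rw [h2]; norm_num
    exact ((by norm_num : Nat.Prime 59).dvd_mul.1 h3).resolve_right h
  have no : ∀ {p : ℕ}, (p, 59) ∈ prs → ∀ g : Spor.Monster, orderOf g ≠ 59 * p := fun hp g hg =>
    nadj g hp ⟨hg ▸ Dvd.intro_left _ rfl, hg ▸ Dvd.intro _ rfl⟩
  refine ⟨?_, ?_, ?_⟩
  · refine index_dvd hK hc (r := 59) (p := 3) (a := 1) (e := 20) (by decide) (by norm_num) (by norm_num) (by norm_num)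
      (by norm_num) (by norm_num) (by norm_num) ?_ (no (by decide)) hH h1
    intro k hk0 hk
    have := le_of (e := 20) (by norm_num) hk
    interval_cases k <;> first | exact absurd rfl hk0 | norm_num
  · refine index_dvd hK hc (r := 59) (p := 5) (a := 1) (e := 9) (by decide) (by norm_num) (by norm_num) (by norm_num)
      (by norm_num) (by norm_num) (by norm_num) ?_ (no (by decide)) hH h1
    intro k hk0 hk
    have := le_of (e := 9) (by norm_num) hk
    interval_cases k <;> first | exact absurd rfl hk0 | norm_num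
  · refine index_dvd hK hc (r := 59) (p := 7) (a := 0) (e := 6) (by decide) (by norm_num) (by norm_num) (by norm_num)
      (by norm_num) (by norm_num) (by norm_num) ?_ (no (by decide)) hH h1
    intro k hk0 hk
    have := le_of (e := 6) (by norm_num) hk
    interval_cases k <;> first | exact absurd rfl hk0 | norm_num

theorem i71 (h : ¬ 71 ∣ H.index) : 3 ^ 18 ∣ H.index ∧ 11 ^ 2 ∣ H.index := by
  have hfin := H966.RowM.finite_m
  have hc : Nat.card Spor.Monster = 808017424794512875886459904961710757005754368000000000 := H966.RowM.card_m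
  have h1 : 71 ∣ Nat.card ↥H := by
    have h2 := H.card_mul_index
    rw [hc] at h2
    have h3 : 71 ∣ Nat.card ↥H * H.index := by rw [h2]; norm_num
    exact ((by norm_num : Nat.Prime 71).dvd_mul.1 h3).resolve_right h
  have no : ∀ {p : ℕ}, (p, 71) ∈ prs → ∀ g : Spor.Monster, orderOf g ≠ 71 * p := fun hp g hg =>
    nadj g hp ⟨hg ▸ Dvd.intro_left _ rfl, hg ▸ Dvd.intro _ rfl⟩
  refine ⟨?_, ?_⟩
  · refine index_dvd hK hc (r := 71) (p := 3) (a := 2) (e := 20) (by decide) (by norm_num) (by norm_num) (by norm_num)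
      (by norm_num) (by norm_num) (by norm_num) ?_ (no (by decide)) hH h1
    intro k hk0 hk
    have := le_of (e := 20) (by norm_num) hk
    interval_cases k <;> first | exact absurd rfl hk0 | norm_num
  · refine index_dvd hK hc (r := 71) (p := 11) (a := 0) (e := 2) (by decide) (by norm_num) (by norm_num) (by norm_num)
      (by norm_num) (by norm_num) (by norm_num) ?_ (no (by decide)) hH h1
    intro k hk0 hk
    have := le_of (e := 2) (by norm_num) hk
    interval_cases k <;> first | exact absurd rfl hk0 | norm_num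

theorem i41 (h : ¬ 41 ∣ H.index) : 7 ^ 5 ∣ H.index ∧ 47 ∣ H.index := by
  have hfin := H966.RowM.finite_m
  have hc : Nat.card Spor.Monster = 808017424794512875886459904961710757005754368000000000 := H966.RowM.card_m
  have h1 : 41 ∣ Nat.card ↥H := by
    have h2 := H.card_mul_index
    rw [hc] at h2
    have h3 : 41 ∣ Nat.card ↥H * H.index := by rw [h2]; norm_num
    exact ((by norm_num : Nat.Prime 41).dvd_mul.1 h3).resolve_right h
  refine ⟨?_, ?_⟩
  · refine index_dvd hK hc (r := 41) (p := 7) (a := 1) (e := 6) (by decide) (by norm_num) (by norm_num) (by norm_num)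
      (by norm_num) (by norm_num) (by norm_num) ?_ (fun g hg => nadj g (p := 7) (r := 41) (by decide)
        ⟨hg ▸ Dvd.intro_left _ rfl, hg ▸ Dvd.intro _ rfl⟩) hH h1
    intro k hk0 hk
    have := le_of (e := 6) (by norm_num) hk
    interval_cases k <;> first | exact absurd rfl hk0 | norm_num
  · rw [← pow_one 47]
    refine index_dvd hK hc (r := 41) (p := 47) (a := 0) (e := 1) (by decide) (by norm_num) (by norm_num) (by norm_num)
      (by norm_num) (by norm_num) (by norm_num) ?_ (fun g hg => nadj g (p := 47) (r := 41) (by decide)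
        ⟨hg ▸ Dvd.intro_left _ rfl, hg ▸ Dvd.intro _ rfl⟩) hH h1
    intro k hk0 hk
    have := le_of (e := 1) (by norm_num) hk
    interval_cases k <;> first | exact absurd rfl hk0 | norm_num

theorem i47 (h : ¬ 47 ∣ H.index) : 3 ^ 7 ∣ H.index ∧ 5 ^ 3 ∣ H.index ∧ 7 ^ 4 ∣ H.index ∧ 11 ∣ H.index ∧
    29 ∣ H.index ∧ 41 ∣ H.index ∧ 71 ∣ H.index := by
  have hfin := H966.RowM.finite_m
  have hc : Nat.card Spor.Monster = 808017424794512875886459904961710757005754368000000000 := H966.RowM.card_m
  have h1 : 47 ∣ Nat.card ↥H := by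
    have h2 := H.card_mul_index
    rw [hc] at h2
    have h3 : 47 ∣ Nat.card ↥H * H.index := by rw [h2]; norm_num
    exact ((by norm_num : Nat.Prime 47).dvd_mul.1 h3).resolve_right h
  have no : ∀ {p : ℕ}, (p, 47) ∈ prs → ∀ g : Spor.Monster, orderOf g ≠ 47 * p := fun hp g hg =>
    nadj g hp ⟨hg ▸ Dvd.intro_left _ rfl, hg ▸ Dvd.intro _ rfl⟩
  have no' : ∀ {p : ℕ}, (47, p) ∈ prs → ∀ g : Spor.Monster, orderOf g ≠ 47 * p := fun hp g hg =>
    nadj g hp ⟨hg ▸ Dvd.intro _ rfl, hg ▸ Dvd.intro_left _ rfl⟩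
  refine ⟨?_, ?_, ?_, ?_, ?_, ?_, ?_⟩
  · refine index_dvd hK hc (r := 47) (p := 3) (a := 13) (e := 20) (by decide) (by norm_num) (by norm_num) (by norm_num)
      (by norm_num) (by norm_num) (by norm_num) ?_ (no (by decide)) hH h1
    intro k hk0 hk
    have := le_of (e := 20) (by norm_num) hk
    interval_cases k <;> first | exact absurd rfl hk0 | norm_num
  · refine index_dvd hK hc (r := 47) (p := 5) (a := 6) (e := 9) (by decide) (by norm_num) (by norm_num) (by norm_num)
      (by norm_num) (by norm_num) (by norm_num) ?_ (no (by decide)) hH h1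
    intro k hk0 hk
    have := le_of (e := 9) (by norm_num) hk
    interval_cases k <;> first | exact absurd rfl hk0 | norm_num
  · refine index_dvd hK hc (r := 47) (p := 7) (a := 2) (e := 6) (by decide) (by norm_num) (by norm_num) (by norm_num)
      (by norm_num) (by norm_num) (by norm_num) ?_ (no (by decide)) hH h1
    intro k hk0 hk
    have := le_of (e := 6) (by norm_num) hk
    interval_cases k <;> first | exact absurd rfl hk0 | norm_num
  · have h2 := index_dvd hK hc (r := 47) (p := 11) (a := 1) (e := 2) (by decide) (by norm_num) (by norm_num)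
      (by norm_num) (by norm_num) (by norm_num) (by norm_num) (fun k hk0 hk => by
        have := le_of (e := 2) (by norm_num) hk
        interval_cases k <;> first | exact absurd rfl hk0 | norm_num) (no (by decide)) hH h1
    rwa [show 2 - 1 = 1 from rfl, pow_one] at h2
  · have h2 := index_dvd hK hc (r := 47) (p := 29) (a := 0) (e := 1) (by decide) (by norm_num) (by norm_num)
      (by norm_num) (by norm_num) (by norm_num) (by norm_num) (fun k hk0 hk => by
        have := le_of (e := 1) (by norm_num) hk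
        interval_cases k <;> first | exact absurd rfl hk0 | norm_num) (no (by decide)) hH h1
    rwa [show 1 - 0 = 1 from rfl, pow_one] at h2
  · have h2 := index_dvd hK hc (r := 47) (p := 41) (a := 0) (e := 1) (by decide) (by norm_num) (by norm_num)
      (by norm_num) (by norm_num) (by norm_num) (by norm_num) (fun k hk0 hk => by
        have := le_of (e := 1) (by norm_num) hk
        interval_cases k <;> first | exact absurd rfl hk0 | norm_num) (no' (by decide)) hH h1
    rwa [show 1 - 0 = 1 from rfl, pow_one] at h2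
  · have h2 := index_dvd hK hc (r := 47) (p := 71) (a := 0) (e := 1) (by decide) (by norm_num) (by norm_num)
      (by norm_num) (by norm_num) (by norm_num) (by norm_num) (fun k hk0 hk => by
        have := le_of (e := 1) (by norm_num) hk
        interval_cases k <;> first | exact absurd rfl hk0 | norm_num) (no' (by decide)) hH h1
    rwa [show 1 - 0 = 1 from rfl, pow_one] at h2

end

/-- the non-adjacencies, in terms of the list `adjL` -/
theorem adj_of (g : Spor.Monster) : ∀ x ∈ adjL, x.1 ∣ orderOf g → Nat.Coprime x.2 (orderOf g) := by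
  have N1 : ∀ {p r : ℕ}, r.Prime → (p, r) ∈ prs → p ∣ orderOf g → Nat.Coprime r (orderOf g) := fun hr hp hd =>
    (hr.coprime_iff_not_dvd).2 fun h => nadj g hp ⟨hd, h⟩
  have N2 : ∀ {p r : ℕ}, r.Prime → (r, p) ∈ prs → p ∣ orderOf g → Nat.Coprime r (orderOf g) := fun hr hp hd =>
    (hr.coprime_iff_not_dvd).2 fun h => nadj g hp ⟨h, hd⟩
  have M : ∀ {a b : ℕ}, Nat.Coprime a (orderOf g) → Nat.Coprime b (orderOf g) → Nat.Coprime (a * b) (orderOf g) :=
    fun ha hb => Nat.Coprime.mul_left ha hb
  intro x hx hd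
  unfold adjL at hx
  simp only [List.mem_cons, List.not_mem_nil, or_false] at hx
  rcases hx with rfl | rfl | rfl | rfl | rfl | rfl | rfl | rfl | rfl | rfl | rfl | rfl | rfl
  · exact M (M (M (N2 (by norm_num) (by decide) hd) (N2 (by norm_num) (by decide) hd))
      (N2 (by norm_num) (by decide) hd)) (N2 (by norm_num) (by decide) hd)
  · exact M (M (M (M (M (M (N2 (by norm_num) (by decide) hd) (N2 (by norm_num) (by decide) hd))
      (N2 (by norm_num) (by decide) hd)) (N2 (by norm_num) (by decide) hd)) (N2 (by norm_num) (by decide) hd))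
      (N2 (by norm_num) (by decide) hd)) (N1 (by norm_num) (by decide) hd)
  · exact M (M (M (M (M (M (M (N2 (by norm_num) (by decide) hd) (N2 (by norm_num) (by decide) hd))
      (N2 (by norm_num) (by decide) hd)) (N2 (by norm_num) (by decide) hd)) (N2 (by norm_num) (by decide) hd))
      (N1 (by norm_num) (by decide) hd)) (N1 (by norm_num) (by decide) hd)) (N1 (by norm_num) (by decide) hd)
  · exact M (M (N2 (by norm_num) (by decide) hd) (N2 (by norm_num) (by decide) hd)) (N2 (by norm_num) (by decide) hd)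
  · exact M (M (M (N2 (by norm_num) (by decide) hd) (N2 (by norm_num) (by decide) hd))
      (N1 (by norm_num) (by decide) hd)) (N1 (by norm_num) (by decide) hd)
  · exact M (N2 (by norm_num) (by decide) hd) (N2 (by norm_num) (by decide) hd)
  · exact M (N2 (by norm_num) (by decide) hd) (N2 (by norm_num) (by decide) hd)
  · exact N2 (p := 19) (r := 11) (by norm_num) (by decide) hd
  · exact M (N2 (by norm_num) (by decide) hd) (N2 (by norm_num) (by decide) hd)
  · exact M (M (M (M (M (M (M (N1 (by norm_num) (by decide) hd) (N1 (by norm_num) (by decide) hd))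
      (N1 (by norm_num) (by decide) hd)) (N1 (by norm_num) (by decide) hd)) (N1 (by norm_num) (by decide) hd))
      (N1 (by norm_num) (by decide) hd)) (N1 (by norm_num) (by decide) hd)) (N1 (by norm_num) (by decide) hd)
  · exact M (M (M (M (N1 (by norm_num) (by decide) hd) (N1 (by norm_num) (by decide) hd))
      (N1 (by norm_num) (by decide) hd)) (N1 (by norm_num) (by decide) hd)) (N1 (by norm_num) (by decide) hd)
  · exact M (M (M (M (N1 (by norm_num) (by decide) hd) (N1 (by norm_num) (by decide) hd))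
      (N1 (by norm_num) (by decide) hd)) (N1 (by norm_num) (by decide) hd)) (N1 (by norm_num) (by decide) hd)
  · exact M (M (N1 (by norm_num) (by decide) hd) (N1 (by norm_num) (by decide) hd)) (N1 (by norm_num) (by decide) hd)

/-- the large primes do not divide the order -/
theorem cop_bigs {x : MG} (h : 7 ^ 5 ∣ orderOf x) : Nat.Coprime (orderOf x) bigs := by
  have N : ∀ {r : ℕ}, r.Prime → H199.NSmMon.Big r → Nat.Coprime (orderOf x) r := fun hr hb =>
    ((hr.coprime_iff_not_dvd).2 (five_seven h hb)).symm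
  unfold bigs
  refine Nat.Coprime.mul_right (Nat.Coprime.mul_right (Nat.Coprime.mul_right (Nat.Coprime.mul_right
    (Nat.Coprime.mul_right (Nat.Coprime.mul_right (Nat.Coprime.mul_right (Nat.Coprime.mul_right
    (N (by norm_num) ?_) (N (by norm_num) ?_)) (N (by norm_num) ?_)) (N (by norm_num) ?_)) (N (by norm_num) ?_))
    (N (by norm_num) ?_)) (N (by norm_num) ?_)) (N (by norm_num) ?_)) (N (by norm_num) ?_) <;>
  · unfold H199.NSmMon.Big; simp

/-- the non-adjacencies of elements of even order -/
theorem adj_even (g : Spor.Monster) (h2 : 2 ∣ orderOf g) : ∀ x ∈ ieven, x.1 ∣ orderOf g → Nat.Coprime x.2.2 (orderOf g) := by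
  obtain ⟨f⟩ := Cfsg.Agent.MonsterP.Equiv.equiv
  have he := even_nadj (x := f g) (by rwa [MulEquiv.orderOf_eq f g])
  rw [MulEquiv.orderOf_eq f g] at he
  have N1 : ∀ {p r : ℕ}, r.Prime → (p, r) ∈ prs → p ∣ orderOf g → Nat.Coprime r (orderOf g) := fun hr hp hd =>
    (hr.coprime_iff_not_dvd).2 fun h => nadj g hp ⟨hd, h⟩
  have N2 : ∀ {p r : ℕ}, r.Prime → (r, p) ∈ prs → p ∣ orderOf g → Nat.Coprime r (orderOf g) := fun hr hp hd =>
    (hr.coprime_iff_not_dvd).2 fun h => nadj g hp ⟨h, hd⟩
  have P : ∀ {r : ℕ}, r.Prime → ¬ r ∣ orderOf g → Nat.Coprime r (orderOf g) := fun hr hn =>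
    (hr.coprime_iff_not_dvd).2 hn
  have M : ∀ {a b : ℕ}, Nat.Coprime a (orderOf g) → Nat.Coprime b (orderOf g) → Nat.Coprime (a * b) (orderOf g) :=
    fun ha hb => Nat.Coprime.mul_left ha hb
  intro x hx hd
  unfold ieven at hx
  simp only [List.mem_cons, List.not_mem_nil, or_false] at hx
  rcases hx with rfl | rfl | rfl | rfl | rfl | rfl | rfl | rfl | rfl | rfl | rfl
  · -- 47
    exact M (M (M (N2 (by norm_num) (by decide) hd) (N2 (by norm_num) (by decide) hd))
      (N2 (by norm_num) (by decide) hd)) (N2 (by norm_num) (by decide) hd)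
  · -- 31
    exact M (N2 (by norm_num) (by decide) hd) (N2 (by norm_num) (by decide) hd)
  · -- 23
    exact M (M (N2 (by norm_num) (by decide) hd) (N2 (by norm_num) (by decide) hd))
      (P (by norm_num) fun h => (he.2 h).2.2 hd)
  · -- 19
    exact M (P (by norm_num) fun h => he.1 h hd) (N2 (by norm_num) (by decide) hd)
  · -- 17
    exact M (N2 (by norm_num) (by decide) hd) (N2 (by norm_num) (by decide) hd)
  · -- 13
    exact P (r := 11) (by norm_num) fun h => (he.2 h).2.1 hd
  · -- 11
    exact M (M (M (M (M (M (P (by norm_num) (he.2 hd).1) (P (by norm_num) (he.2 hd).2.1))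
      (N1 (by norm_num) (by decide) hd)) (N1 (by norm_num) (by decide) hd)) (P (by norm_num) (he.2 hd).2.2))
      (N1 (by norm_num) (by decide) hd)) (N1 (by norm_num) (by decide) hd)
  · -- 7
    exact M (M (M (M (P (by norm_num) fun h => (he.2 h).1 hd) (P (by norm_num) (he.1 hd)))
      (N1 (by norm_num) (by decide) hd)) (N1 (by norm_num) (by decide) hd)) (N1 (by norm_num) (by decide) hd)
  · -- 5
    exact M (M (N1 (by norm_num) (by decide) hd) (N1 (by norm_num) (by decide) hd)) (N1 (by norm_num) (by decide) hd)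
  · -- 3
    exact N1 (p := 3) (r := 47) (by norm_num) (by decide) hd
  · exact Nat.coprime_one_left _

/-- **No element of the Monster has exactly two cycles on the cosets of a proper subgroup.** -/
theorem kill (hK : ∀ (T : Type) [Group T] [Finite T] [IsSimpleGroup T], IsKnownSimple' T) {H : Subgroup Spor.Monster}
    (hH : H ≠ ⊤) (g : Spor.Monster) {k₀ l₀ : ℕ} (hk : k₀ ≠ 0) (hl : l₀ ≠ 0) (hn : H.index = k₀ + l₀)
    (hg : orderOf g = Nat.lcm k₀ l₀) : False := by
  have hfin := H966.RowM.finite_m
  have hc : Nat.card Spor.Monster = 808017424794512875886459904961710757005754368000000000 := H966.RowM.card_m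
  obtain ⟨f⟩ := Cfsg.Agent.MonsterP.Equiv.equiv
  have hfo : orderOf (f g) = orderOf g := MulEquiv.orderOf_eq f g
  -- the greatest common divisor
  obtain ⟨k, l, hcop, hk1, hl1⟩ := Nat.exists_coprime k₀ l₀
  set d := Nat.gcd k₀ l₀ with hd
  have hd0 : 0 < d := Nat.gcd_pos_of_pos_left _ (Nat.pos_of_ne_zero hk)
  have hlcm : Nat.lcm k₀ l₀ = d * (k * l) := by
    have h1 := Nat.gcd_mul_lcm k₀ l₀
    rw [← hd] at h1
    apply Nat.eq_of_mul_eq_mul_left hd0
    rw [h1]
    calc k₀ * l₀ = (k * d) * (l * d) := by rw [← hk1, ← hl1]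
      _ = d * (d * (k * l)) := by ring
  have hc1 : orderOf g = d * (k * l) := hg.trans hlcm
  have hn1 : H.index = d * (k + l) := by
    rw [hn]
    calc k₀ + l₀ = k * d + l * d := by rw [← hk1, ← hl1]
      _ = d * (k + l) := by ring
  have n_dvd : d * (k + l) ∣ nM := by
    rw [← hn1]
    have h1 := H.index_dvd_card
    rw [hc] at h1
    exact h1
  have c_le : d * (k * l) ≤ cM := by
    rw [← hc1, ← hfo]
    exact ord_le (f g)
  have f59 : 59 ∣ d * (k + l) := by
    rw [← hn1]
    by_contra hcon
    obtain ⟨h1, h2, h3⟩ := i59 hK hH hcon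
    have h4 : 3 ^ 19 * (5 ^ 8 * 7 ^ 6) ∣ H.index :=
      Nat.Coprime.mul_dvd_of_dvd_of_dvd (by norm_num) h1 (Nat.Coprime.mul_dvd_of_dvd_of_dvd (by norm_num) h2 h3)
    have hpos : 0 < H.index := by
      rw [hn]
      exact Nat.add_pos_left (Nat.pos_of_ne_zero hk) _
    have h5 := Nat.le_of_dvd hpos h4
    have h6 : k ≤ k * l := Nat.le_mul_of_pos_right _ (Nat.pos_of_ne_zero fun h0 => hl (by rw [hl1, h0, zero_mul]))
    have h7 : l ≤ k * l := Nat.le_mul_of_pos_left _ (Nat.pos_of_ne_zero fun h0 => hk (by rw [hk1, h0, zero_mul]))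
    have h8 : H.index ≤ 2 * (d * (k * l)) := by
      rw [hn1]
      calc d * (k + l) ≤ d * (k * l + k * l) := Nat.mul_le_mul_left _ (Nat.add_le_add h6 h7)
        _ = 2 * (d * (k * l)) := by ring
    have h9 : H.index ≤ 2 * 931000000000000000 := h8.trans (Nat.mul_le_mul_left 2 c_le)
    have h10 : 3 ^ 19 * (5 ^ 8 * 7 ^ 6) ≤ 2 * 931000000000000000 := h5.trans h9
    exact absurd h10 (by norm_num)
  have f71 : 71 ∣ d * (k + l) ∨ 3 ^ 18 ∣ d * (k + l) ∧ 11 ^ 2 ∣ d * (k + l) := by
    rw [← hn1]
    by_cases h : 71 ∣ H.index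
    · exact Or.inl h
    · exact Or.inr (i71 hK hH h)
  have f41 : 41 ∣ d * (k + l) ∨ 7 ^ 5 ∣ d * (k + l) ∧ 47 ∣ d * (k + l) := by
    rw [← hn1]
    by_cases h : 41 ∣ H.index
    · exact Or.inl h
    · exact Or.inr (i41 hK hH h)
  by_cases h2 : 2 ∣ orderOf g
  · refine even_false (d := d) (k := k) (l := l) ⟨hcop, ?_, n_dvd, c_le, ?_, f59, f71, f41⟩
    · rw [← hc1, ← hfo]
      exact even_dvd (by rwa [hfo])
    · rw [← hc1]
      exact adj_even g h2
  · refine odd_false (d := d) (k := k) (l := l) ⟨hcop, ?_, n_dvd, c_le, ?_, f59, f71, f41, ?_, ?_, ?_⟩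
    · rw [← hc1]
      have h1 := orderOf_dvd_natCard g
      rw [hc] at h1
      exact h1
    · rw [← hc1]
      exact adj_of g
    · rw [← hn1]
      by_cases h : 47 ∣ H.index
      · exact Or.inl h
      · exact Or.inr (i47 hK hH h)
    · rw [← hc1, ← hfo]
      exact cop_bigs
    · rw [← hc1]
      exact h2

end Cfsg.Agent.H549.TwoCyc.MonKill
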