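import Cfsg.Agent.H549.TwoCyc.MonNum

/-!
# The Monster in S3507: the arithmetic (helper549)

`c = d (k l)` is the order of an element with cycles of lengths `d k`, `d l`, and `n = d (k + l)` is the index of a
proper subgroup. `odd_false`, `even_false` : the known divisibility facts about `c` and `n` are contradictory.
-/

set_option autoImplicit false
set_option maxRecDepth 100000

namespace Cfsg.Agent.H549.TwoCyc.MonNum

/-- the order of the Monster -/
def nM : ℕ := 808017424794512875886459904961710757005754368000000000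

/-- a bound for the orders of elements -/
def cM : ℕ := 931000000000000000

/-! ### non-adjacent primes -/

def b71 : ℕ := 3 * 11 * 47 * 59
def b47 : ℕ := 3 * 5 * 7 * 11 * 29 * 41 * 59 * 71
def b41 : ℕ := 7 * 11 * 47
def b59 : ℕ := 3 * 5 * 7 * 11 * 29 * 47 * 71
def b29 : ℕ := 5 * 11 * 47 * 59
def b31 : ℕ := 7 * 11
def b23 : ℕ := 5 * 7
def b19 : ℕ := 11
def b17 : ℕ := 5 * 11
def b11 : ℕ := 17 * 19 * 29 * 31 * 41 * 47 * 59 * 71
def b7 : ℕ := 23 * 31 * 41 * 47 * 59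
def b5 : ℕ := 17 * 23 * 29 * 47 * 59
def b3 : ℕ := 47 * 59 * 71

/-- the large primes -/
def bigs : ℕ := 17 * 19 * 23 * 29 * 31 * 41 * 47 * 59 * 71

/-- the list of the odd case -/
def iodd : List (ℕ × ℕ × ℕ) :=
  [(71, 1, b71), (59, 0, b59), (47, 1, b47), (41, 1, b41), (29, 1, b29), (31, 1, b31), (23, 1, b23), (19, 1, b19),
    (17, 1, b17), (13, 3, 1), (11, 2, b11), (7, 6, b7), (5, 9, b5), (3, 20, b3)]

/-- `p ^ e` divides `n`, as far as one can say -/
def tT (q b D k l : ℕ) : Bool :=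
  cond (Nat.beq (Nat.gcd b (k * l * D)) 1) (Nat.beq ((nM * (k + l)) % (q * (k * l))) 0) (Nat.beq ((k + l) % q) 0)

/-- `p` divides `n` -/
def tD (p D k l : ℕ) : Bool := or (Nat.beq (D % p) 0) (Nat.beq ((k + l) % p) 0)

/-- compatibility of the divisor `D` of `d` with the non-adjacencies -/
def cp (p b D k l : ℕ) : Bool := or (not (Nat.beq (D % p) 0)) (Nat.beq (Nat.gcd b (k * l * D)) 1)

/-- the conditions for the part `D` of `d` -/
def okD (D k l : ℕ) : Bool :=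
  Nat.beq (nM % (D * (k + l))) 0 && (Nat.beq (nM % (k * l * D)) 0 &&
  (cp 71 b71 D k l && (cp 47 b47 D k l && (cp 41 b41 D k l && (cp 59 b59 D k l &&
  (tD 59 D k l &&
  ((tD 71 D k l || (tT (3 ^ 18) b3 D k l && tT (11 ^ 2) b11 D k l)) &&
  ((tD 41 D k l || (tT (7 ^ 5) b7 D k l && (tD 47 D k l &&
    not (not (Nat.beq ((k + l) % 7) 0) && not (Nat.beq (Nat.gcd (k * l * D) bigs) 1))))) &&
  (tD 47 D k l || (tT (3 ^ 7) b3 D k l && (tT (5 ^ 3) b5 D k l && (tT (7 ^ 4) b7 D k l && (tT 11 b11 D k l &&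
    (tT 29 b29 D k l && (tD 41 D k l && tD 71 D k l)))))))))))))))

/-- the possible parts -/
def dL : List ℕ := [1, 71, 47, 41, 71 * 47, 71 * 41, 47 * 41, 71 * 47 * 41,
  59, 59 * 71, 59 * 47, 59 * 41, 59 * (71 * 47), 59 * (71 * 41), 59 * (47 * 41), 59 * (71 * 47 * 41)]

def slow (k l : ℕ) : Bool := dL.all fun D => not (okD D k l)

/-- the test -/
def leafO (k l : ℕ) : Bool :=
  cond (Nat.beq (Nat.mod (Nat.add k l) 59) 0)
    (cond (Nat.beq (Nat.mod nM (Nat.add k l)) 0) (slow k l) true)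
    (cond (Nat.beq (Nat.gcd b59 (Nat.mul k l)) 1)
      (cond (Nat.beq (Nat.mod nM (Nat.add k l)) 0) (slow k l) true) true)

theorem go_odd : go leafO cM iodd 1 1 = true := by decide +kernel

/-! ### the even case -/

def nE : ℕ := 2 ^ 46 * 3 ^ 13 * 5 ^ 6 * 7 ^ 2 * 11 * 13 * 17 * 19 * 23 * 31 * 47

def ieven : List (ℕ × ℕ × ℕ) :=
  [(47, 1, 3 * 5 * 7 * 11), (31, 1, 7 * 11), (23, 1, 5 * 7 * 11), (19, 1, 7 * 11), (17, 1, 5 * 11), (13, 1, 11),
   (11, 1, 7 * 13 * 17 * 19 * 23 * 31 * 47), (7, 2, 11 * 19 * 23 * 31 * 47), (5, 6, 17 * 23 * 47), (3, 13, 47),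
   (2, 46, 1)]

def leafE (k l : ℕ) : Bool :=
  cond (Nat.beq (Nat.mod (Nat.add k l) 59) 0)
    (cond (Nat.beq (Nat.mod nM (Nat.add k l)) 0)
      (not (and
        (or (Nat.beq (Nat.mod (Nat.add k l) 71) 0) (and (Nat.beq ((nE * (k + l)) % (3 ^ 18 * (k * l))) 0)
          (Nat.beq ((nE * (k + l)) % (11 ^ 2 * (k * l))) 0)))
        (or (Nat.beq (Nat.mod (Nat.add k l) 41) 0) (and (Nat.beq ((nE * (k + l)) % (7 ^ 5 * (k * l))) 0)
          (Nat.beq ((nE * (k + l)) % (47 * (k * l))) 0))))) true) true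

theorem go_even : go leafE cM ieven 1 1 = true := by decide +kernel

end Cfsg.Agent.H549.TwoCyc.MonNum
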