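import Mathlib

/-!
# The Monster in S3507: the enumeration (helper549)

`go` runs through the pairs of coprime numbers `k`, `l` composed of the primes of a list, with bounded exponents and
bounded product, which respect a relation "non-adjacent" between primes, and tests each of them.
-/

set_option autoImplicit false

namespace Cfsg.Agent.H549.TwoCyc.MonNum

/-- the loop over the powers of `p` -/
def lp (f : ℕ → ℕ → Bool) (CM k l p : ℕ) : ℕ → ℕ → Bool
  | 0, _ => true
  | n + 1, q => cond (Nat.ble (Nat.mul (Nat.mul k q) l) CM)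
      (and (f (Nat.mul k q) l) (and (or (Nat.beq (Nat.mul k l) 1) (f k (Nat.mul l q)))
        (lp f CM k l p n (Nat.mul q p)))) true

/-- the enumeration; the members of the list: prime, exponent, product of the non-adjacent primes -/
def go (leaf : ℕ → ℕ → Bool) (CM : ℕ) : List (ℕ × ℕ × ℕ) → ℕ → ℕ → Bool
  | [], k, l => leaf k l
  | x :: L, k, l => and (go leaf CM L k l)
      (cond (Nat.beq (Nat.gcd x.2.2 (Nat.mul k l)) 1) (lp (go leaf CM L) CM k l x.1 x.2.1 x.1) true)

theorem lp_spec {f : ℕ → ℕ → Bool} {CM k l p : ℕ} (hp : 0 < p) : ∀ {n q : ℕ} (_ : 0 < q) (_ : lp f CM k l p n q = true)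
    {i : ℕ} (_ : i < n) (_ : k * (q * p ^ i) * l ≤ CM),
    f (k * (q * p ^ i)) l = true ∧ (k * l ≠ 1 → f k (l * (q * p ^ i)) = true)
  | 0, q, hq, h, i, hi, hle => absurd hi (Nat.not_lt_zero i)
  | n + 1, q, hq, h, i, hi, hle => by
    rw [lp] at h
    have hle0 : k * q * l ≤ CM := by
      refine le_trans ?_ hle
      refine Nat.mul_le_mul_right _ (Nat.mul_le_mul_left _ ?_)
      exact Nat.le_mul_of_pos_right _ (pow_pos hp i)
    have hb : Nat.ble (Nat.mul (Nat.mul k q) l) CM = true := by
      rw [Nat.ble_eq]; exact hle0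
    rw [hb, cond_true, Bool.and_eq_true, Bool.and_eq_true, Bool.or_eq_true] at h
    rcases Nat.eq_zero_or_pos i with rfl | hi0
    · rw [pow_zero, mul_one]
      refine ⟨h.1, fun hne => h.2.1.resolve_left fun he => hne ?_⟩
      exact Nat.eq_of_beq_eq_true he
    · obtain ⟨j, rfl⟩ := Nat.exists_eq_succ_of_ne_zero hi0.ne'
      have e : q * p ^ (j.succ) = q * p * p ^ j := by rw [pow_succ]; ring
      rw [e] at hle ⊢
      exact lp_spec hp (Nat.mul_pos hq hp) h.2.2 (by omega) hle

theorem one_of_mul {a b : ℕ} (h : a * b = 1) : a = 1 ∧ b = 1 :=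
  ⟨Nat.dvd_one.1 (Dvd.intro _ h), Nat.dvd_one.1 (Dvd.intro_left _ h)⟩

/-- **Soundness.** -/
theorem go_spec {leaf : ℕ → ℕ → Bool} {CM : ℕ} : ∀ {I : List (ℕ × ℕ × ℕ)} {k l K L : ℕ} (_ : ∀ x ∈ I, x.1.Prime)
    (_ : K ≠ 0) (_ : L ≠ 0) (_ : Nat.Coprime K L)
    (_ : ∀ p : ℕ, p.Prime → p ∣ K * L → ∃ x ∈ I, x.1 = p) (_ : ∀ x ∈ I, ¬ x.1 ^ (x.2.1 + 1) ∣ K * L)
    (_ : k * K * (l * L) ≤ CM) (_ : ∀ x ∈ I, x.1 ∣ K * L → Nat.Coprime x.2.2 (k * K * (l * L)))
    (_ : go leaf CM I k l = true),
    (k * l ≠ 1 → leaf (k * K) (l * L) = true) ∧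
      (k = 1 → l = 1 → leaf (k * K) (l * L) = true ∨ leaf (l * L) (k * K) = true)
  | [], k, l, K, L, _, hK, hL, _, hs, _, _, _, h => by
    have h1 : K * L = 1 := by
      by_contra hne
      obtain ⟨p, hp, hd⟩ := Nat.exists_prime_and_dvd hne
      obtain ⟨x, hx, -⟩ := hs p hp hd
      exact absurd hx List.not_mem_nil
    obtain ⟨rfl, rfl⟩ := one_of_mul h1
    rw [go] at h
    rw [mul_one, mul_one]
    exact ⟨fun _ => h, fun _ _ => Or.inl h⟩
  | (p, e, b) :: I, k, l, K, L, hp, hK, hL, hc, hs, he, hle, hadj, h => by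
    have pp : p.Prime := hp (p, e, b) List.mem_cons_self
    rw [go, Bool.and_eq_true] at h
    obtain ⟨i, K', hK', rfl⟩ := Nat.exists_eq_pow_mul_and_not_dvd hK p pp.ne_one
    obtain ⟨j, L', hL', rfl⟩ := Nat.exists_eq_pow_mul_and_not_dvd hL p pp.ne_one
    have hK0 : K' ≠ 0 := fun h0 => hK' (h0 ▸ dvd_zero p)
    have hL0 : L' ≠ 0 := fun h0 => hL' (h0 ▸ dvd_zero p)
    have hcop : Nat.Coprime K' L' := Nat.Coprime.coprime_dvd_left (Dvd.intro_left _ rfl)
      (Nat.Coprime.coprime_dvd_right (Dvd.intro_left _ rfl) hc)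
    have hdvd : K' * L' ∣ p ^ i * K' * (p ^ j * L') := ⟨p ^ i * p ^ j, by ring⟩
    have hnd : ¬ p ∣ K' * L' := fun hd => (pp.dvd_mul.1 hd).elim hK' hL'
    have hs' : ∀ r : ℕ, r.Prime → r ∣ K' * L' → ∃ x ∈ I, x.1 = r := by
      intro r hr hrd
      obtain ⟨x, hx, hxr⟩ := hs r hr (hrd.trans hdvd)
      rcases List.mem_cons.1 hx with rfl | hx
      · exact absurd hrd (by rw [← hxr]; exact hnd)
      · exact ⟨x, hx, hxr⟩
    have he' : ∀ x ∈ I, ¬ x.1 ^ (x.2.1 + 1) ∣ K' * L' := fun x hx hd =>
      he x (List.mem_cons_of_mem _ hx) (hd.trans hdvd)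
    have hp' : ∀ x ∈ I, x.1.Prime := fun x hx => hp x (List.mem_cons_of_mem _ hx)
    have hij : i = 0 ∨ j = 0 := by
      rcases Nat.eq_zero_or_pos i with h0 | h0
      · exact Or.inl h0
      · right
        by_contra hj
        have h1 : p ∣ p ^ i * K' := (dvd_pow_self p h0.ne').mul_right _
        have h2 : p ∣ p ^ j * L' := (dvd_pow_self p hj).mul_right _
        exact pp.one_lt.ne' (Nat.dvd_one.1 (hc ▸ Nat.dvd_gcd h1 h2))
    have hi : i ≤ e := by
      by_contra hcon
      have hlt : e + 1 ≤ i := by omega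
      exact he (p, e, b) List.mem_cons_self (((pow_dvd_pow p hlt).mul_right _).mul_right _)
    have hj : j ≤ e := by
      by_contra hcon
      have hlt : e + 1 ≤ j := by omega
      exact he (p, e, b) List.mem_cons_self (((pow_dvd_pow p hlt).mul_right _).mul_left _)
    have hKpos : 1 ≤ K' := Nat.one_le_iff_ne_zero.2 hK0
    have hLpos : 1 ≤ L' := Nat.one_le_iff_ne_zero.2 hL0
    have hadj' : ∀ x ∈ I, x.1 ∣ K' * L' → Nat.Coprime x.2.2 (k * (p ^ i * K') * (l * (p ^ j * L'))) :=
      fun x hx hd => hadj x (List.mem_cons_of_mem _ hx) (hd.trans hdvd)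
    have hgcd : p ∣ p ^ i * K' * (p ^ j * L') → Nat.beq (Nat.gcd b (Nat.mul k l)) 1 = true := by
      intro hd
      have h1 := hadj (p, e, b) List.mem_cons_self hd
      have h2 : Nat.Coprime b (k * l) := Nat.Coprime.coprime_dvd_right
        ⟨p ^ i * K' * (p ^ j * L'), by ring⟩ h1
      show Nat.beq (Nat.gcd b (k * l)) 1 = true
      rw [Nat.Coprime] at h2
      rw [h2]
      rfl
    rcases hij with rfl | rfl
    · rcases Nat.eq_zero_or_pos j with rfl | hj0
      · rw [pow_zero, one_mul, one_mul] at *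
        exact go_spec hp' hK0 hL0 hcop hs' he' hle hadj' h.1
      · -- the power goes to `l`
        rw [pow_zero, one_mul] at *
        have h3 := h.2
        rw [hgcd (((dvd_pow_self p hj0.ne').mul_right _).mul_left _), cond_true] at h3
        obtain ⟨j, rfl⟩ := Nat.exists_eq_succ_of_ne_zero hj0.ne'
        rw [Nat.succ_eq_add_one] at *
        have hpj : p * p ^ j = p ^ (j + 1) := by rw [pow_succ]; ring
        have hpl : 1 ≤ p ^ (j + 1) := Nat.one_le_pow _ _ pp.pos
        constructor
        · intro hkl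
          have hle1 : k * (p * p ^ j) * l ≤ CM := by
            rw [hpj]
            refine le_trans ?_ hle
            calc k * p ^ (j + 1) * l = k * 1 * (l * (p ^ (j + 1) * 1)) := by ring
              _ ≤ k * K' * (l * (p ^ (j + 1) * L')) := by gcongr
          have h4 := (lp_spec pp.pos pp.pos h3 (i := j) (Nat.lt_of_succ_le hj) hle1).2 hkl
          rw [hpj] at h4
          have e1 : l * (p ^ (j + 1) * L') = l * p ^ (j + 1) * L' := by ring
          rw [e1] at hle hadj' ⊢
          refine (go_spec hp' hK0 hL0 hcop hs' he' hle hadj' h4).1 fun h5 => ?_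
          have h6 := (one_of_mul h5).2
          have h7 := (one_of_mul h6).2
          rw [Nat.pow_eq_one] at h7
          rcases h7 with h7 | h7
          · exact pp.ne_one h7
          · omega
        · rintro rfl rfl
          right
          have hle1 : 1 * (p * p ^ j) * 1 ≤ CM := by
            rw [hpj, one_mul, mul_one]
            refine le_trans ?_ hle
            calc p ^ (j + 1) = 1 * 1 * (1 * (p ^ (j + 1) * 1)) := by ring
              _ ≤ 1 * K' * (1 * (p ^ (j + 1) * L')) := by gcongr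
          have h4 := (lp_spec pp.pos pp.pos h3 (i := j) (Nat.lt_of_succ_le hj) hle1).1
          rw [hpj] at h4
          have e1 : 1 * (p ^ (j + 1) * L') = 1 * p ^ (j + 1) * L' := by ring
          rw [e1]
          refine (go_spec hp' hL0 hK0 hcop.symm (fun r hr hd => hs' r hr (by rwa [mul_comm] at hd))
            (fun x hx hd => he' x hx (by rwa [mul_comm] at hd)) ?_ (fun x hx hd => ?_) h4).1 fun h5 => ?_
          · refine le_trans (le_of_eq ?_) hle; ring
          · have h6 := hadj' x hx (by rwa [mul_comm] at hd)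
            have e2 : 1 * p ^ (j + 1) * L' * (1 * K') = 1 * K' * (1 * (p ^ (j + 1) * L')) := by ring
            rw [e2]; exact h6
          · rw [mul_one, one_mul, Nat.pow_eq_one] at h5
            rcases h5 with h7 | h7
            · exact pp.ne_one h7
            · omega
    · rcases Nat.eq_zero_or_pos i with rfl | hi0
      · rw [pow_zero, one_mul, one_mul] at *
        exact go_spec hp' hK0 hL0 hcop hs' he' hle hadj' h.1
      · rw [pow_zero, one_mul] at *
        have h3 := h.2
        rw [hgcd (((dvd_pow_self p hi0.ne').mul_right _).mul_right _), cond_true] at h3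
        obtain ⟨i, rfl⟩ := Nat.exists_eq_succ_of_ne_zero hi0.ne'
        rw [Nat.succ_eq_add_one] at *
        have hpj : p * p ^ i = p ^ (i + 1) := by rw [pow_succ]; ring
        have hle1 : k * (p * p ^ i) * l ≤ CM := by
          rw [hpj]
          refine le_trans ?_ hle
          calc k * p ^ (i + 1) * l = k * (p ^ (i + 1) * 1) * (l * 1) := by ring
            _ ≤ k * (p ^ (i + 1) * K') * (l * L') := by gcongr
        have h4 := (lp_spec pp.pos pp.pos h3 (i := i) (Nat.lt_of_succ_le hi) hle1).1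
        rw [hpj] at h4
        have e1 : k * (p ^ (i + 1) * K') = k * p ^ (i + 1) * K' := by ring
        rw [e1] at hle hadj' ⊢
        have h5 := (go_spec hp' hK0 hL0 hcop hs' he' hle hadj' h4).1 fun h5 => by
          have h6 := (one_of_mul h5).1
          have h7 := (one_of_mul h6).2
          rw [Nat.pow_eq_one] at h7
          rcases h7 with h7 | h7
          · exact pp.ne_one h7
          · omega
        exact ⟨fun _ => h5, fun _ _ => Or.inl h5⟩

end Cfsg.Agent.H549.TwoCyc.MonNum
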